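import Cfsg.Agent.H30.FiE.Deg

/-!
# Degrees of `Fi24` from the commuting pairs of transpositions (helper30). Generated.
-/

set_option autoImplicit false
set_option maxRecDepth 100000
set_option linter.all false

namespace Cfsg.Agent.H30.FiE

open Cfsg Cfsg.Agent.Lib.PermNet Cfsg.Agent.Lib.PermNetPt Cfsg.Agent.Lib.PermNetOrbit
open Cfsg.Agent.Fischer.Fi24RepOrb (UG)
open Cfsg.Spor (Fi24)
open Cfsg.Agent.H30.PairFn (Ctx)
open Cfsg.Agent.H30.PairFn.Ctx (Ent Orbs IsFn KInv hf rs fn)
open scoped ComplexConjugate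

attribute [local instance] Classical.propDecidable


/-! ### The degree 3208653525 -/

/-- the eigenfunction -/
def ve (k : ℕ) : ℚ :=
  if k = 3510 then 1 else
  if k = 693 then -1/390 else
  if k = 351 then 1/3520 else
  if k = 4180 then 1/15015 else
  if k = 8126 then -1/137280 else
  if k = 12063 then 0 else
  if k = 16063 then 0 else
  if k = 16108 then -1/12320 else
  if k = 16000 then -1/17600 else
  if k = 24036 then 1/137280 else
  if k = 36360 then 1/1716 else
  if k = 36072 then -1/600600 else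
  if k = 36036 then -1/600600 else
  0
theorem ve_3510 : ve 3510 = 1 := by unfold ve; norm_num only [if_true, if_false]
theorem ve_693 : ve 693 = -1/390 := by unfold ve; norm_num only [if_true, if_false]
theorem ve_351 : ve 351 = 1/3520 := by unfold ve; norm_num only [if_true, if_false]
theorem ve_4180 : ve 4180 = 1/15015 := by unfold ve; norm_num only [if_true, if_false]
theorem ve_8126 : ve 8126 = -1/137280 := by unfold ve; norm_num only [if_true, if_false]
theorem ve_12063 : ve 12063 = 0 := by unfold ve; norm_num only [if_true, if_false]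
theorem ve_16063 : ve 16063 = 0 := by unfold ve; norm_num only [if_true, if_false]
theorem ve_16108 : ve 16108 = -1/12320 := by unfold ve; norm_num only [if_true, if_false]
theorem ve_16000 : ve 16000 = -1/17600 := by unfold ve; norm_num only [if_true, if_false]
theorem ve_24036 : ve 24036 = 1/137280 := by unfold ve; norm_num only [if_true, if_false]
theorem ve_36360 : ve 36360 = 1/1716 := by unfold ve; norm_num only [if_true, if_false]
theorem ve_36072 : ve 36072 = -1/600600 := by unfold ve; norm_num only [if_true, if_false]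
theorem ve_36036 : ve 36036 = -1/600600 := by unfold ve; norm_num only [if_true, if_false]

theorem ve_A {k : ℕ} (hk : k ∈ [3510, 693, 351, 4180, 8126, 12063, 16063, 16108, 16000, 24036, 36360, 36072, 36036]) : rowA (fun k => ((ve k : ℚ) : ℂ)) k = (-18) * ((ve k : ℚ) : ℂ) := by
  simp only [List.mem_cons, List.not_mem_nil, or_false] at hk
  rcases hk with rfl | rfl | rfl | rfl | rfl | rfl | rfl | rfl | rfl | rfl | rfl | rfl | rfl
  · rw [rowA_3510]; simp only [ve_3510, ve_693]; norm_num
  · rw [rowA_693]; simp only [ve_3510, ve_693, ve_351, ve_4180, ve_8126]; norm_num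
  · rw [rowA_351]; simp only [ve_693, ve_351, ve_8126, ve_16063]; norm_num
  · rw [rowA_4180]; simp only [ve_693, ve_4180, ve_8126, ve_12063]; norm_num
  · rw [rowA_8126]; simp only [ve_693, ve_351, ve_4180, ve_8126, ve_12063, ve_16063, ve_16108, ve_24036]; norm_num
  · rw [rowA_12063]; simp only [ve_4180, ve_8126, ve_12063, ve_24036, ve_36360, ve_36072, ve_36036]; norm_num
  · rw [rowA_16063]; simp only [ve_351, ve_8126, ve_16063, ve_16108, ve_16000, ve_24036]; norm_num
  · rw [rowA_16108]; simp only [ve_8126, ve_16063, ve_16108, ve_24036]; norm_num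
  · rw [rowA_16000]; simp only [ve_16063, ve_16000, ve_24036]; norm_num
  · rw [rowA_24036]; simp only [ve_8126, ve_12063, ve_16063, ve_16108, ve_16000, ve_24036, ve_36072, ve_36036]; norm_num
  · rw [rowA_36360]; simp only [ve_12063, ve_36360, ve_36072]; norm_num
  · rw [rowA_36072]; simp only [ve_12063, ve_24036, ve_36360, ve_36072, ve_36036]; norm_num
  · rw [rowA_36036]; simp only [ve_12063, ve_24036, ve_36072, ve_36036]; norm_num

theorem ve_lin {β : ℕ → ℂ} (hA : ∀ k ∈ [3510, 693, 351, 4180, 8126, 12063, 16063, 16108, 16000, 24036, 36360, 36072, 36036], rowA β k = (-18) * β k)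
    (hC3510 : 3512 * β 3510 + 56320 * β 351 + 247104 * β 36360 = 3672 * β 3510)
    (hC4180 : 6840 * β 4180 + 9216 * β 8126 + 46080 * β 12063 + 46080 * β 16063 + 163840 * β 36036 + 34560 * β 36072 + 320 * β 36360 = 3672 * β 4180)
    (hC16108 : 10312 * β 16108 + 2 * β 351 + 486 * β 8126 + 122472 * β 24036 + 5832 * β 16063 + 4320 * β 16000 + 5832 * β 12063 + 91800 * β 36036 + 65610 * β 36072 + 270 * β 36360 = 3672 * β 16108)
    (hC36360 : 6664 * β 36360 + 11520 * β 24036 + 151200 * β 36072 + 89600 * β 36036 + 2 * β 3510 + 3150 * β 4180 + 44800 * β 16108 = 3672 * β 36360)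
    {k : ℕ} (hk : k ∈ [3510, 693, 351, 4180, 8126, 12063, 16063, 16108, 16000, 24036, 36360, 36072, 36036]) : β k = β 3510 * ((ve k : ℚ) : ℂ) := by
  have hA3510 := hA 3510 (by simp)
  rw [rowA_3510] at hA3510
  have hA693 := hA 693 (by simp)
  rw [rowA_693] at hA693
  have hA351 := hA 351 (by simp)
  rw [rowA_351] at hA351
  have hA4180 := hA 4180 (by simp)
  rw [rowA_4180] at hA4180
  have hA8126 := hA 8126 (by simp)
  rw [rowA_8126] at hA8126
  have hA12063 := hA 12063 (by simp)
  rw [rowA_12063] at hA12063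
  have hA16063 := hA 16063 (by simp)
  rw [rowA_16063] at hA16063
  have hA16108 := hA 16108 (by simp)
  rw [rowA_16108] at hA16108
  have hA16000 := hA 16000 (by simp)
  rw [rowA_16000] at hA16000
  have hA24036 := hA 24036 (by simp)
  rw [rowA_24036] at hA24036
  have hA36360 := hA 36360 (by simp)
  rw [rowA_36360] at hA36360
  have hA36072 := hA 36072 (by simp)
  rw [rowA_36072] at hA36072
  have hA36036 := hA 36036 (by simp)
  rw [rowA_36036] at hA36036
  simp only [List.mem_cons, List.not_mem_nil, or_false] at hk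
  rcases hk with rfl | rfl | rfl | rfl | rfl | rfl | rfl | rfl | rfl | rfl | rfl | rfl | rfl
  · rw [ve_3510]; norm_num
  · rw [ve_693]; push_cast; linear_combination (1/7020) * hA3510
  · rw [ve_351]; push_cast; linear_combination (-7/337920) * hA3510 + (1/11264) * hA693 + (1/4224) * hA351 + (-9/22528) * hA4180 + (1/1408) * hA8126 + (-1/704) * hA16063 + (1/1056) * hA16000
  · rw [ve_4180]; push_cast; linear_combination (-5423911/1313512200) * hA3510 + (48802879/656756100) * hA693 + (-10840702/164189025) * hA351 + (-27844591/145945800) * hA4180 + (2956502/164189025) * hA8126 + (11908/42525) * hA12063 + (1455604/6081075) * hA16063 + (-841592/10945935) * hA16000 + (-9056/42525) * hA24036 + (1571/5254048800) * hC3510 + (7/12960) * hC4180 + (-64/32805) * hC16108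
  · rw [ve_8126]; push_cast; linear_combination (1335559/1334361600) * hA3510 + (-6011513/333590400) * hA693 + (83459/5212350) * hA351 + (7020379/148262400) * hA4180 + (-214397/41698800) * hA8126 + (-2977/43200) * hA12063 + (-177563/3088800) * hA16063 + (49967/2779920) * hA16000 + (283/5400) * hA24036 + (-1571/21349785600) * hC3510 + (-49/368640) * hC4180 + (7/14580) * hC16108
  · rw [ve_12063]; push_cast; linear_combination (-5103151/48037017600) * hA3510 + (45959779/24018508800) * hA693 + (-464041/272937600) * hA351 + (-2512181/485222400) * hA4180 + (220541/272937600) * hA8126 + (2977/388800) * hA12063 + (29891/5054400) * hA16063 + (-7649/4548960) * hA16000 + (-283/48600) * hA24036 + (1571/192148070400) * hC3510 + (49/3317760) * hC4180 + (-7/131220) * hC16108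
  · rw [ve_16063]; push_cast; linear_combination (-5101801/48037017600) * hA3510 + (3534433/1847577600) * hA693 + (-5105801/3002313600) * hA351 + (-1995157/410572800) * hA4180 + (-33023/230947200) * hA8126 + (2977/388800) * hA12063 + (33427/4276800) * hA16063 + (-11353/3849120) * hA16000 + (-283/48600) * hA24036 + (1571/192148070400) * hC3510 + (49/3317760) * hC4180 + (-7/131220) * hC16108
  · rw [ve_16108]; push_cast; linear_combination (37297597/11070259200) * hA3510 + (-30520403/503193600) * hA693 + (37299677/691891200) * hA351 + (186397957/1230028800) * hA4180 + (3571823/691891200) * hA8126 + (-21829/89600) * hA12063 + (-2871227/12812800) * hA16063 + (961633/11531520) * hA16000 + (1891/11200) * hA24036 + (-24767/44281036800) * hC3510 + (-57/327680) * hC4180 + (7/4320) * hC16108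
  · rw [ve_16000]; push_cast; linear_combination (21478159/8211456000) * hA3510 + (-193333531/4105728000) * hA693 + (21479039/513216000) * hA351 + (108664999/912384000) * hA4180 + (-496939/513216000) * hA8126 + (-161239/864000) * hA12063 + (-1617589/9504000) * hA16063 + (545311/8553600) * hA16000 + (14131/108000) * hA24036 + (-13169/32845824000) * hC3510 + (-1183/7372800) * hC4180 + (91/72900) * hC16108
  · rw [ve_24036]; push_cast; linear_combination (-123767153/384296140800) * hA3510 + (1114053557/192148070400) * hA693 + (-123768433/24018508800) * hA351 + (-626052953/42699571200) * hA4180 + (3410933/24018508800) * hA8126 + (71441/3110400) * hA12063 + (9270983/444787200) * hA16063 + (-3052997/400308480) * hA16000 + (-6239/388800) * hA24036 + (77443/1537184563200) * hC3510 + (497/26542080) * hC4180 + (-161/1049760) * hC16108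
  · rw [ve_36360]; push_cast; linear_combination (7/1482624) * hA3510 + (-5/247104) * hA693 + (-5/92664) * hA351 + (5/54912) * hA4180 + (-5/30888) * hA8126 + (5/15444) * hA16063 + (-5/23166) * hA16000 + (1/247104) * hC3510
  · rw [ve_36072]; push_cast; linear_combination (-10192079/420323904000) * hA3510 + (7050647/16166304000) * hA693 + (-1454437/3752892000) * hA351 + (-3328163/3592512000) * hA4180 + (-1147957/2020788000) * hA8126 + (6743/3402000) * hA12063 + (81593/37422000) * hA16063 + (-29147/33679800) * hA16000 + (-797/425250) * hA24036 + (-21011/1681295616000) * hC3510 + (-7/4147200) * hC4180 + (1/164025) * hC16108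
  · rw [ve_36036]; push_cast; linear_combination (132109433/1494484992000) * hA3510 + (-108101527/67931136000) * hA693 + (132106393/93405312000) * hA351 + (671463713/166053888000) * hA4180 + (-11756093/93405312000) * hA8126 + (-10823/1728000) * hA12063 + (-156961/27456000) * hA16063 + (3052877/1556755200) * hA16000 + (7319/1512000) * hA24036 + (-9829/853991424000) * hC3510 + (-71/14745600) * hC4180 + (23/583200) * hC16108

theorem ve_C : let w : ℕ → ℂ := fun k => ((ve k : ℚ) : ℂ)
    ∀ c d, X.com c d → X.CC (fn X X.cl w) c d = 3672 * fn X X.cl w c d := by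
  intro w
  have hv := orbs.isFn w
  have hk := orbs.kInv w
  have hw : ∀ x y, X.com x y → fn X X.cl w x y = w (X.cl x y) := fun x y h => if_pos h
  set ψ : ℕ → ℕ → ℂ := fun c d => X.CC (fn X X.cl w) c d - 3672 * fn X X.cl w c d with hψ
  have hF : IsFn X ψ := by
    refine ⟨fun c d => ?_, fun c d h => ?_⟩
    · show _ - _ = _ - _
      rw [hv.CC.symm, hv.symm]
    · show _ - _ = (0 : ℂ)
      rw [hv.CC.zero c d h, hv.zero c d h]; ring
  have hK : X.KInv ψ := by
    intro g hg c d
    show _ - _ = _ - _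
    rw [hk.CC g hg, hk g hg]
  have hA0 : ∀ c d, X.com c d → X.A1 (fn X X.cl w) c d = (-18) * fn X X.cl w c d := by
    intro c d h
    rw [A1_val hk hw h, ve_A (cl_mem h), hw c d h]
  have hA : ∀ c d, X.com c d → X.A1 ψ c d = (-18) * ψ c d := by
    intro c d h
    have e : ψ = fun c d => X.CC (fn X X.cl w) c d + (fun c d => (-3672) * fn X X.cl w c d) c d := by
      funext c d; show _ - _ = _ + _; ring
    rw [e, Ctx.A1_add, Ctx.A1_mul, Ctx.A1_CC, hA0 c d h]
    have e2 : X.CC (X.A1 (fn X X.cl w)) c d = (-18) * X.CC (fn X X.cl w) c d := by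
      show ∑ x ∈ X.PT, X.A1 (fn X X.cl w) (X.ρ (X.t x) c) (X.ρ (X.t x) d) = _ * ∑ x ∈ X.PT, _
      rw [Finset.mul_sum]
      exact Finset.sum_congr rfl fun x _ => hA0 _ _ (X.inv _ h)
    rw [e2]
    ring
  obtain ⟨β, hβ⟩ := orbs.exists_beta hF hK
  have z3510 : β 3510 = 0 := by
    have hcd := chkCl_spec cl_02
    rw [← hcd.2, ← hβ _ _ hcd.1]
    show X.CC (fn X X.cl w) 0 136 - 3672 * fn X X.cl w 0 136 = 0
    rw [CC_0 hv hk hw, hw _ _ hcd.1, hcd.2]
    show 3512 * ((ve 3510 : ℚ) : ℂ) + 56320 * ((ve 351 : ℚ) : ℂ) + 247104 * ((ve 36360 : ℚ) : ℂ) - 3672 * ((ve 3510 : ℚ) : ℂ) = 0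
    simp only [ve_351, ve_3510, ve_36360]
    norm_num
  have z4180 : β 4180 = 0 := by
    have hcd := chkCl_spec cl_10
    rw [← hcd.2, ← hβ _ _ hcd.1]
    show X.CC (fn X X.cl w) 1 4 - 3672 * fn X X.cl w 1 4 = 0
    rw [CC_3 hv hk hw, hw _ _ hcd.1, hcd.2]
    show 6840 * ((ve 4180 : ℚ) : ℂ) + 9216 * ((ve 8126 : ℚ) : ℂ) + 46080 * ((ve 12063 : ℚ) : ℂ) + 46080 * ((ve 16063 : ℚ) : ℂ) + 320 * ((ve 36360 : ℚ) : ℂ) + 34560 * ((ve 36072 : ℚ) : ℂ) + 163840 * ((ve 36036 : ℚ) : ℂ) - 3672 * ((ve 4180 : ℚ) : ℂ) = 0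
    simp only [ve_4180, ve_8126, ve_12063, ve_16063, ve_36036, ve_36072, ve_36360]
    norm_num
  have z16108 : β 16108 = 0 := by
    have hcd := chkCl_spec cl_20
    rw [← hcd.2, ← hβ _ _ hcd.1]
    show X.CC (fn X X.cl w) 8 307872 - 3672 * fn X X.cl w 8 307872 = 0
    rw [CC_7 hv hk hw, hw _ _ hcd.1, hcd.2]
    show 2 * ((ve 351 : ℚ) : ℂ) + 486 * ((ve 8126 : ℚ) : ℂ) + 5832 * ((ve 12063 : ℚ) : ℂ) + 5832 * ((ve 16063 : ℚ) : ℂ) + 10312 * ((ve 16108 : ℚ) : ℂ) + 4320 * ((ve 16000 : ℚ) : ℂ) + 122472 * ((ve 24036 : ℚ) : ℂ) + 270 * ((ve 36360 : ℚ) : ℂ) + 65610 * ((ve 36072 : ℚ) : ℂ) + 91800 * ((ve 36036 : ℚ) : ℂ) - 3672 * ((ve 16108 : ℚ) : ℂ) = 0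
    simp only [ve_351, ve_8126, ve_12063, ve_16000, ve_16063, ve_16108, ve_24036, ve_36036, ve_36072, ve_36360]
    norm_num
  have z36360 : β 36360 = 0 := by
    have hcd := chkCl_spec cl_30
    rw [← hcd.2, ← hβ _ _ hcd.1]
    show X.CC (fn X X.cl w) 307496 308352 - 3672 * fn X X.cl w 307496 308352 = 0
    rw [CC_10 hv hk hw, hw _ _ hcd.1, hcd.2]
    show 2 * ((ve 3510 : ℚ) : ℂ) + 3150 * ((ve 4180 : ℚ) : ℂ) + 44800 * ((ve 16108 : ℚ) : ℂ) + 11520 * ((ve 24036 : ℚ) : ℂ) + 6664 * ((ve 36360 : ℚ) : ℂ) + 151200 * ((ve 36072 : ℚ) : ℂ) + 89600 * ((ve 36036 : ℚ) : ℂ) - 3672 * ((ve 36360 : ℚ) : ℂ) = 0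
    simp only [ve_3510, ve_4180, ve_16108, ve_24036, ve_36036, ve_36072, ve_36360]
    norm_num
  intro c d h
  have h1 := zero_lin (fun k hk => eqA hK hβ hA hk) z3510 z4180 z16108 z36360 (cl_mem h)
  rw [← hβ c d h] at h1
  exact sub_eq_zero.1 h1

/-- the degree 3208653525 -/
theorem exists_e : ∃ χ : IrrCharacter Fi24, charDegree (χ : Fi24 → ℂ) = 3208653525 := by
  have : Finite Fi24 := Cfsg.Agent.R08.FiTwentyFour.finite_Fi24
  set w : ℕ → ℂ := fun k => ((ve k : ℚ) : ℂ) with hw
  have hv := orbs.isFn w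
  have hab := (chkCl_spec cl_02)
  refine Ctx.exists_deg (X := X) (P := True) (τ := (-18)) (ω := 3672) (v := fn X X.cl w) hv ?_ ?_ (fun _ => ve_C) ?_
    (n2 := 9720970056) (s2 := 5832/1925) ?_ sum_one ?_
  · show fn X X.cl w 0 136 = 1
    rw [Ctx.fn_of hab.1, hab.2, hw]
    simp only [ve_3510]
    norm_num
  · intro c d h
    rw [A1_val (orbs.kInv w) (fun x y h => if_pos h) h, ve_A (cl_mem h), Ctx.fn_of h]
  · intro ψ hψ hK h1 h2 c d h
    obtain ⟨β, hβ⟩ := orbs.exists_beta hψ hK
    have k0 := h2 trivial _ _ (chkCl_spec cl_02).1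
    have k3 := h2 trivial _ _ (chkCl_spec cl_10).1
    have k7 := h2 trivial _ _ (chkCl_spec cl_20).1
    have k10 := h2 trivial _ _ (chkCl_spec cl_30).1
    rw [CC_0 hψ hK hβ, hβ _ _ (chkCl_spec cl_02).1, (chkCl_spec cl_02).2] at k0
    rw [CC_3 hψ hK hβ, hβ _ _ (chkCl_spec cl_10).1, (chkCl_spec cl_10).2] at k3
    rw [CC_7 hψ hK hβ, hβ _ _ (chkCl_spec cl_20).1, (chkCl_spec cl_20).2] at k7
    rw [CC_10 hψ hK hβ, hβ _ _ (chkCl_spec cl_30).1, (chkCl_spec cl_30).2] at k10
    rw [hβ c d h, ve_lin (fun k hk => eqA hK hβ h1 hk) (by linear_combination k0) (by linear_combination k3)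
      (by linear_combination k7) (by linear_combination k10) (cl_mem h), Ctx.fn_of h]
    show _ = ψ 0 136 * _
    rw [hβ _ _ hab.1, hab.2]
  · have e : ∀ x y, fn X X.cl w x y * conj (fn X X.cl w x y) = fn X X.cl (fun k => ((ve k ^ 2 : ℚ) : ℂ)) x y := by
      intro x y
      by_cases h : X.com x y
      · rw [Ctx.fn_of h, Ctx.fn_of h, hw]
        simp only [map_ratCast]
        push_cast
        ring
      · have e1 : fn X X.cl w x y = 0 := if_neg h
        have e2 : fn X X.cl (fun k => ((ve k ^ 2 : ℚ) : ℂ)) x y = 0 := if_neg h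
        rw [e1, e2, zero_mul]
    simp only [e]
    rw [sum_fn]
    simp only [ve_3510, ve_693, ve_351, ve_4180, ve_8126, ve_12063, ve_16063, ve_16108, ve_16000, ve_24036, ve_36360, ve_36072, ve_36036]
    norm_num
  · norm_num

end Cfsg.Agent.H30.FiE
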