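import Cfsg.Agent.H30.FiE.Data

/-! # `Fi24` on the commuting pairs of transpositions: kernel checks (helper30). Generated. -/

set_option autoImplicit false
set_option maxRecDepth 100000
set_option Elab.async false

namespace Cfsg.Agent.H30.FiE

open Cfsg Cfsg.Agent.Lib.PermNet Cfsg.Agent.Lib.PermNetPt Cfsg.Agent.Lib.PermNetOrbit
open Cfsg.Agent.Fischer.Fi24RepDef Cfsg.Agent.Fischer.Fi24Rep
open Cfsg.Agent.Fischer.Fi24RepOrb (UG)
open Cfsg.Agent.Fischer.Fi24RepOrbData (UW)
open Cfsg.Spor (Fi24)
open Cfsg.Spor.Fi24 (Gen)
open Cfsg.Agent.H30.PairFn.Ctx (Ent)

theorem chkw_0 : chkPt (nw w0 false) 0 0 = true := by decide +kernel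
theorem tyc_0 : tval 0 = 0 := by decide +kernel
theorem memR_0 : allK [] r0 = true := by decide +kernel
theorem chkw_1 : chkPt (nw w1 false) 1 0 = true := by decide +kernel
theorem tyc_1 : tval 1 = 1 := by decide +kernel
theorem memR_1 : allK [] r1 = true := by decide +kernel
theorem chkw_2 : chkPt (nw w8 false) 8 0 = true := by decide +kernel
theorem tyc_2 : tval 8 = 2 := by decide +kernel
theorem memR_2 : allK [] r2 = true := by decide +kernel
theorem chkw_3 : chkPt (nw w307496 false) 307496 0 = true := by decide +kernel
theorem tyc_3 : tval 307496 = 3 := by decide +kernel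
theorem memR_3 : allK [] r3 = true := by decide +kernel
theorem mem_00 : allK [0] q00 = true := by decide +kernel
theorem cl_00 : chkCl 0 1 w0 w1 693 = true := by decide +kernel
theorem ty_00 : tval 1 = 1 := by decide +kernel
theorem mem_01 : allK [0] q01 = true := by decide +kernel
theorem cl_01 : chkCl 0 3240 w0 w3240 351 = true := by decide +kernel
theorem ty_01 : tval 3240 = 2 := by decide +kernel
theorem chkd_01 : chkPt (nw w3240 false) 3240 0 = true := by decide +kernel
theorem mem_02 : allK [0] q02 = true := by decide +kernel
theorem cl_02 : chkCl 0 136 w0 w136 3510 = true := by decide +kernel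
theorem ty_02 : tval 136 = 0 := by decide +kernel
theorem chkd_02 : chkPt (nw w136 false) 136 0 = true := by decide +kernel
theorem mem_10 : allK [1] q10 = true := by decide +kernel
theorem cl_10 : chkCl 1 4 w1 w4 4180 = true := by decide +kernel
theorem ty_10 : tval 4 = 1 := by decide +kernel
theorem chkd_10 : chkPt (nw w4 false) 4 0 = true := by decide +kernel
theorem mem_11 : allK [1] q11 = true := by decide +kernel
theorem cl_11 : chkCl 1 0 w1 w0 693 = true := by decide +kernel
theorem ty_11 : tval 0 = 0 := by decide +kernel
theorem mem_12 : allK [1] q12 = true := by decide +kernel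
theorem cl_12 : chkCl 1 307968 w1 w307968 8126 = true := by decide +kernel
theorem ty_12 : tval 307968 = 2 := by decide +kernel
theorem chkd_12 : chkPt (nw w307968 false) 307968 0 = true := by decide +kernel
theorem mem_13 : allK [1] q13 = true := by decide +kernel
theorem cl_13 : chkCl 1 307464 w1 w307464 12063 = true := by decide +kernel
theorem ty_13 : tval 307464 = 3 := by decide +kernel
theorem chkd_13 : chkPt (nw w307464 false) 307464 0 = true := by decide +kernel
theorem mem_20 : allK [8] q20 = true := by decide +kernel
theorem cl_20 : chkCl 8 307872 w8 w307872 16108 = true := by decide +kernel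
theorem ty_20 : tval 307872 = 2 := by decide +kernel
theorem chkd_20 : chkPt (nw w307872 false) 307872 0 = true := by decide +kernel
theorem mem_21 : allK [8] q21 = true := by decide +kernel
theorem cl_21 : chkCl 8 0 w8 w0 351 = true := by decide +kernel
theorem ty_21 : tval 0 = 0 := by decide +kernel
theorem mem_22 : allK [8] q22 = true := by decide +kernel
theorem cl_22 : chkCl 8 1 w8 w1 8126 = true := by decide +kernel
theorem ty_22 : tval 1 = 1 := by decide +kernel
theorem mem_23 : allK [8] q23 = true := by decide +kernel
theorem cl_23 : chkCl 8 308352 w8 w308352 24036 = true := by decide +kernel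
theorem ty_23 : tval 308352 = 3 := by decide +kernel
theorem chkd_23 : chkPt (nw w308352 false) 308352 0 = true := by decide +kernel
theorem mem_24 : allK [8] q24 = true := by decide +kernel
theorem cl_24 : chkCl 8 768 w8 w768 16063 = true := by decide +kernel
theorem ty_24 : tval 768 = 2 := by decide +kernel
theorem chkd_24 : chkPt (nw w768 false) 768 0 = true := by decide +kernel
theorem mem_25 : allK [8] q25 = true := by decide +kernel
theorem cl_25 : chkCl 8 296072 w8 w296072 16000 = true := by decide +kernel
theorem ty_25 : tval 296072 = 2 := by decide +kernel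
theorem chkd_25 : chkPt (nw w296072 false) 296072 0 = true := by decide +kernel
theorem mem_30 : allK [307496] q30 = true := by decide +kernel
theorem cl_30 : chkCl 307496 308352 w307496 w308352 36360 = true := by decide +kernel
theorem ty_30 : tval 308352 = 3 := by decide +kernel
theorem chkd_30 : chkPt (nw w308352 false) 308352 0 = true := by decide +kernel
theorem mem_31 : allK [307496] q31 = true := by decide +kernel
theorem cl_31 : chkCl 307496 307840 w307496 w307840 24036 = true := by decide +kernel
theorem ty_31 : tval 307840 = 2 := by decide +kernel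
theorem chkd_31 : chkPt (nw w307840 false) 307840 0 = true := by decide +kernel
theorem mem_32 : allK [307496] q32 = true := by decide +kernel
theorem cl_32 : chkCl 307496 1 w307496 w1 12063 = true := by decide +kernel
theorem ty_32 : tval 1 = 1 := by decide +kernel
theorem mem_33 : allK [307496] q33 = true := by decide +kernel
theorem cl_33 : chkCl 307496 307480 w307496 w307480 36072 = true := by decide +kernel
theorem ty_33 : tval 307480 = 3 := by decide +kernel
theorem chkd_33 : chkPt (nw w307480 false) 307480 0 = true := by decide +kernel
theorem mem_34 : allK [307496] q34 = true := by decide +kernel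
theorem cl_34 : chkCl 307496 266040 w307496 w266040 36036 = true := by decide +kernel
theorem ty_34 : tval 266040 = 3 := by decide +kernel
theorem chkd_34 : chkPt (nw w266040 false) 266040 0 = true := by decide +kernel
theorem rep_all : peelB 19 (([(R0, 2), (R1, 3510), (R2, 56320), (R3, 247104)] : List (ℕ × ℕ)).map fun p => (p.1, p.2)) UG = true := by decide +kernel

end Cfsg.Agent.H30.FiE
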