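import Cfsg.Agent.H30.FiE.Data

/-! # `Fi24` on the commuting pairs of transpositions: kernel checks (helper30). Generated. -/

set_option autoImplicit false
set_option maxRecDepth 100000
set_option Elab.async false

namespace Cfsg.Agent.H30.FiE

open Cfsg Cfsg.Agent.Lib.PermNet Cfsg.Agent.Lib.PermNetPt Cfsg.Agent.Lib.PermNetOrbit
open Cfsg.Agent.Fischer.Fi24RepDef Cfsg.Agent.Fischer.Fi24Rep
open Cfsg.Agent.Fischer.Fi24RepOrb (UG)
open Cfsg.Agent.Fischer.Fi24RepOrbData (UW)
open Cfsg.Spor (Fi24)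
open Cfsg.Spor.Fi24 (Gen)
open Cfsg.Agent.H30.PairFn.Ctx (Ent)

theorem rs_0 : peelB 19 (([(e00, 3510), (e01, 28160), (e02, 1)] : List (Ent × ℕ)).map fun p => (p.1.Q, p.2)) (M w0) = true := by decide +kernel
theorem hf_00 : peelB 19 (([(e00, 693), (e01, 2816), (e02, 1)] : List (Ent × ℕ)).map fun p => (p.1.Q, p.2)) (Nat.land (M w0) (M w1)) = true := by decide +kernel
theorem hf_01 : peelB 19 (([(e00, 351), (e01, 3159)] : List (Ent × ℕ)).map fun p => (p.1.Q, p.2)) (Nat.land (M w0) (M w3240)) = true := by decide +kernel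
theorem hf_02 : peelB 19 (([(e00, 3510)] : List (Ent × ℕ)).map fun p => (p.1.Q, p.2)) (Nat.land (M w0) (M w136)) = true := by decide +kernel
theorem rs_1 : peelB 19 (([(e10, 693), (e11, 2), (e12, 5632), (e13, 25344)] : List (Ent × ℕ)).map fun p => (p.1.Q, p.2)) (M w1) = true := by decide +kernel
theorem hf_10 : peelB 19 (([(e10, 180), (e11, 2), (e12, 1024), (e13, 2304)] : List (Ent × ℕ)).map fun p => (p.1.Q, p.2)) (Nat.land (M w1) (M w4)) = true := by decide +kernel
theorem hf_11 : peelB 19 (([(e10, 693), (e11, 1), (e12, 2816)] : List (Ent × ℕ)).map fun p => (p.1.Q, p.2)) (Nat.land (M w1) (M w0)) = true := by decide +kernel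
theorem hf_12 : peelB 19 (([(e10, 126), (e11, 1), (e12, 791), (e13, 2592)] : List (Ent × ℕ)).map fun p => (p.1.Q, p.2)) (Nat.land (M w1) (M w307968)) = true := by decide +kernel
theorem hf_13 : peelB 19 (([(e10, 63), (e12, 576), (e13, 2871)] : List (Ent × ℕ)).map fun p => (p.1.Q, p.2)) (Nat.land (M w1) (M w307464)) = true := by decide +kernel
theorem rs_2 : peelB 19 (([(e20, 728), (e21, 1), (e22, 351), (e23, 25272), (e24, 3159), (e25, 2160)] : List (Ent × ℕ)).map fun p => (p.1.Q, p.2)) (M w8) = true := by decide +kernel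
theorem hf_20 : peelB 19 (([(e20, 243), (e22, 108), (e23, 2916), (e24, 243)] : List (Ent × ℕ)).map fun p => (p.1.Q, p.2)) (Nat.land (M w8) (M w307872)) = true := by decide +kernel
theorem hf_21 : peelB 19 (([(e22, 351), (e24, 3159)] : List (Ent × ℕ)).map fun p => (p.1.Q, p.2)) (Nat.land (M w8) (M w0)) = true := by decide +kernel
theorem hf_22 : peelB 19 (([(e20, 224), (e21, 1), (e22, 126), (e23, 2592), (e24, 567)] : List (Ent × ℕ)).map fun p => (p.1.Q, p.2)) (Nat.land (M w8) (M w1)) = true := by decide +kernel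
theorem hf_23 : peelB 19 (([(e20, 84), (e22, 36), (e23, 2835), (e24, 315), (e25, 240)] : List (Ent × ℕ)).map fun p => (p.1.Q, p.2)) (Nat.land (M w8) (M w308352)) = true := by decide +kernel
theorem hf_24 : peelB 19 (([(e20, 56), (e21, 1), (e22, 63), (e23, 2520), (e24, 630), (e25, 240)] : List (Ent × ℕ)).map fun p => (p.1.Q, p.2)) (Nat.land (M w8) (M w768)) = true := by decide +kernel
theorem hf_25 : peelB 19 (([(e23, 2808), (e24, 351), (e25, 351)] : List (Ent × ℕ)).map fun p => (p.1.Q, p.2)) (Nat.land (M w8) (M w296072)) = true := by decide +kernel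
theorem rs_3 : peelB 19 (([(e30, 1), (e31, 5760), (e32, 360), (e33, 3150), (e34, 22400)] : List (Ent × ℕ)).map fun p => (p.1.Q, p.2)) (M w307496) = true := by decide +kernel
theorem hf_30 : peelB 19 (([(e32, 360), (e33, 3150)] : List (Ent × ℕ)).map fun p => (p.1.Q, p.2)) (Nat.land (M w307496) (M w308352)) = true := by decide +kernel
theorem hf_31 : peelB 19 (([(e31, 639), (e32, 36), (e33, 315), (e34, 2520)] : List (Ent × ℕ)).map fun p => (p.1.Q, p.2)) (Nat.land (M w307496) (M w307840)) = true := by decide +kernel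
theorem hf_32 : peelB 19 (([(e30, 1), (e31, 576), (e32, 63), (e33, 630), (e34, 2240)] : List (Ent × ℕ)).map fun p => (p.1.Q, p.2)) (Nat.land (M w307496) (M w1)) = true := by decide +kernel
theorem hf_33 : peelB 19 (([(e30, 1), (e31, 576), (e32, 72), (e33, 621), (e34, 2240)] : List (Ent × ℕ)).map fun p => (p.1.Q, p.2)) (Nat.land (M w307496) (M w307480)) = true := by decide +kernel
theorem hf_34 : peelB 19 (([(e31, 648), (e32, 36), (e33, 315), (e34, 2511)] : List (Ent × ℕ)).map fun p => (p.1.Q, p.2)) (Nat.land (M w307496) (M w266040)) = true := by decide +kernel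

end Cfsg.Agent.H30.FiE
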