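import Cfsg.Agent.H30.FiE.Data

/-! # `Fi24` on the commuting pairs of transpositions: kernel checks (helper30). Generated. -/

set_option autoImplicit false
set_option maxRecDepth 100000
set_option Elab.async false

namespace Cfsg.Agent.H30.FiE

open Cfsg Cfsg.Agent.Lib.PermNet Cfsg.Agent.Lib.PermNetPt Cfsg.Agent.Lib.PermNetOrbit
open Cfsg.Agent.Fischer.Fi24RepDef Cfsg.Agent.Fischer.Fi24Rep
open Cfsg.Agent.Fischer.Fi24RepOrb (UG)
open Cfsg.Agent.Fischer.Fi24RepOrbData (UW)
open Cfsg.Spor (Fi24)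
open Cfsg.Spor.Fi24 (Gen)
open Cfsg.Agent.H30.PairFn.Ctx (Ent)

def tc0 : List Gen := [.l]
def td0 : List Gen := [.j]
theorem chkS0_0 : chkS 0 136 tc0 td0 s0_0 307496 308352 w307496 w308352 36360 = true := by decide +kernel
theorem peelS0 : peelB 19 (([(S0_0, 247104)] : List (SEnt × ℕ)).map fun p => (p.1.S, p.2)) (m5 0 136 w0 w136) = true := by decide +kernel

end Cfsg.Agent.H30.FiE
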