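import Cfsg.Agent.H30.FiE.Net
import Cfsg.Agent.H30.PairInv

/-!
# `Fi24` on the commuting pairs of transpositions (helper30)

* `X : Ctx Fi24`, `tr : Tr X`;
* `M_spec` : masks of commuting points.
-/

set_option autoImplicit false
set_option maxRecDepth 100000

namespace Cfsg.Agent.H30.FiE

open Cfsg Cfsg.Agent.Lib.PermNet Cfsg.Agent.Lib.PermNetPt Cfsg.Agent.Lib.PermNetOrbit
open Cfsg.Agent.Fischer.Fi24RepDef Cfsg.Agent.Fischer.Fi24Rep
open Cfsg.Agent.Fischer.Fi24RepOrb (UG H orbG orbW orbR testBit_UG)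
open Cfsg.Agent.Fischer.Fi24RepOrbData (UW UR)
open Cfsg.Spor (Fi24)
open Cfsg.Spor.Fi24 (Gen)
open Cfsg.Agent.KFacts.FiTF.Pts
open Cfsg.Agent.KFacts.FiTF.FixMask (isPt_gen pn)
open Cfsg.Agent.R08.FiTwentyFour (gen_mem_L)
open Cfsg.Agent.H30.PairFn (Ctx papply_inv pinv_apply)

local notation "L" => Cfsg.Agent.R08.FiTwentyFour.L

/-- the transposition with the point `p` -/
noncomputable def tp (p : ℕ) : Fi24 := by
  classical
  exact if h : ∃ d, IsPt d p then h.choose else 1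

theorem isPt_iff {p : ℕ} : UG.testBit p = true ↔ ∃ d, IsPt d p := by
  constructor
  · intro h
    have h2 : p ∈ {p : ℕ | UG.testBit p = true} := h
    rw [← orbG] at h2
    obtain ⟨g, hg⟩ := h2
    exact ⟨_, g, hg, rfl⟩
  · rintro ⟨d, h⟩
    exact KFacts.FiTF.FixMask.bit h

theorem isPt_tp {p : ℕ} (h : UG.testBit p = true) : IsPt (tp p) p := by
  have h1 := isPt_iff.1 h
  unfold tp
  rw [dif_pos h1]
  exact h1.choose_spec

theorem tp_eq {d : Fi24} {p : ℕ} (h : IsPt d p) : tp p = d := (isPt_tp (isPt_iff.2 ⟨d, h⟩)).inj h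

theorem bit_act (g : Fi24) {p : ℕ} (h : UG.testBit p = true) : UG.testBit (rho g p) = true :=
  isPt_iff.2 ⟨_, (isPt_tp h).conj g⟩

theorem tp_act (g : Fi24) {p : ℕ} (h : UG.testBit p = true) : tp (rho g p) = g * tp p * g⁻¹ :=
  tp_eq ((isPt_tp h).conj g)

theorem tp_mem {p : ℕ} (h : UG.testBit p = true) : tp p ∈ L := (isPt_tp h).mem

/-- the relation -/
def Com (c d : ℕ) : Prop := UG.testBit c = true ∧ UG.testBit d = true ∧ c ≠ d ∧ Commute (tp c) (tp d)

theorem Com.symm {c d : ℕ} (h : Com c d) : Com d c := ⟨h.2.1, h.1, h.2.2.1.symm, h.2.2.2.symm⟩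

theorem Com.act (g : Fi24) {c d : ℕ} (h : Com c d) : Com (rho g c) (rho g d) := by
  obtain ⟨h1, h2, h3, h4⟩ := h
  refine ⟨bit_act g h1, bit_act g h2, fun h => h3 ((rho g).injective h), ?_⟩
  rw [tp_act g h1, tp_act g h2]
  show g * tp c * g⁻¹ * (g * tp d * g⁻¹) = g * tp d * g⁻¹ * (g * tp c * g⁻¹)
  calc g * tp c * g⁻¹ * (g * tp d * g⁻¹) = g * (tp c * tp d) * g⁻¹ := by group
    _ = g * (tp d * tp c) * g⁻¹ := by rw [h4.eq]
    _ = g * tp d * g⁻¹ * (g * tp c * g⁻¹) := by group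

theorem com_act_iff (g : Fi24) (c d : ℕ) : Com (rho g c) (rho g d) ↔ Com c d := by
  constructor
  · intro h
    have h1 := h.act g⁻¹
    rwa [map_inv, pinv_apply, pinv_apply] at h1
  · exact Com.act g

theorem Com.fix {c d : ℕ} (h : Com c d) : rho (tp c) d = d := ((isPt_tp h.2.1).comm_iff _).1 h.2.2.2

theorem of_fix {c d : ℕ} (hc : UG.testBit c = true) (hd : UG.testBit d = true) (hne : c ≠ d)
    (h : rho (tp c) d = d) : Com c d := ⟨hc, hd, hne, ((isPt_tp hd).comm_iff _).2 h⟩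

theorem tp_gen (x : Gen) : tp (pn x) = gen x := tp_eq (isPt_gen x)

theorem bit_gen (x : Gen) : UG.testBit (pn x) = true := isPt_iff.2 ⟨_, isPt_gen x⟩

theorem com_lj : Com 0 136 := by
  refine ⟨bit_gen .l, bit_gen .j, by norm_num, ?_⟩
  have e1 : tp 0 = gen .l := tp_gen .l
  have e2 : tp 136 = gen .j := tp_gen .j
  rw [e1, e2]
  exact Cfsg.Agent.Fischer.Fi24Final.gen_comm (x := .l) (y := .j) (by decide)

theorem not_com_lk : ¬ Com 0 307872 := by
  intro h
  have e1 : tp 0 = gen .l := tp_gen .l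
  have h1 : rho (gen .l) 307872 = 307872 := by rw [← e1]; exact h.fix
  have h2 : chkPt (nw [.l] false) 307872 307840 = true := by decide +kernel
  have h3 := rho_of_chkPt h2
  rw [Cfsg.Agent.Fischer.Fi24RepOrb.word_single] at h3
  rw [h1] at h3
  exact absurd h3 (by norm_num)

theorem UW_spec (x : ℕ) : UW.testBit x = true ↔ Com 0 x := by
  constructor
  · intro h
    have h2 : x ∈ {p : ℕ | UW.testBit p = true} := h
    rw [← orbW] at h2
    obtain ⟨g, hg, hgx⟩ := h2
    have h3 := com_lj.act g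
    rw [hgx, (hst g).2 hg] at h3
    exact h3
  · intro h
    have h1 := h.2.1
    rw [testBit_UG] at h1
    simp only [Bool.or_eq_true, decide_eq_true_eq] at h1
    rcases h1 with h1 | h1 | h1
    · exact h1
    · exfalso
      have h2 : x ∈ {p : ℕ | UR.testBit p = true} := h1
      rw [← orbR] at h2
      obtain ⟨g, hg, hgx⟩ := h2
      rw [← hgx, ← (hst g).2 hg, com_act_iff] at h
      exact not_com_lk h
    · exact absurd h1.symm h.2.2.1

/-- masks of commuting points -/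
theorem M_spec {w : List Gen} {c : ℕ} (h : chkPt (nw w false) c 0 = true) (x : ℕ) :
    (M w).testBit x = true ↔ Com c x := by
  unfold M
  rw [testBit_appWord (wok w false), ← rho_word, UW_spec, ← com_act_iff (word w) c x, rho_of_chkPt h]

theorem UG_lt : UG < 2 ^ 2 ^ 19 := by
  have hU : Nat.beq (Nat.shiftRight UG (Nat.pow 2 19)) 0 = true := by decide +kernel
  have h1 : UG >>> 2 ^ 19 = 0 := Nat.eq_of_beq_eq_true hU
  rw [Nat.shiftRight_eq_div_pow] at h1
  exact (Nat.div_eq_zero_iff_lt (Nat.two_pow_pos _)).1 h1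

theorem lt_of_bit {p : ℕ} (h : UG.testBit p = true) : p < 2 ^ 19 := by
  by_contra hc
  rw [Nat.testBit_lt_two_pow (lt_of_lt_of_le UG_lt (Nat.pow_le_pow_right (by norm_num) (not_lt.1 hc)))] at h
  exact absurd h (by simp)

/-- the stabiliser of `{a, b}` -/
def K : Subgroup Fi24 where
  carrier := {g | (rho g 0 = 0 ∧ rho g 136 = 136) ∨ (rho g 0 = 136 ∧ rho g 136 = 0)}
  mul_mem' := by
    intro g h hg hh
    simp only [Set.mem_ofPred_eq, map_mul, Equiv.Perm.mul_apply] at *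
    rcases hg with ⟨g1, g2⟩ | ⟨g1, g2⟩ <;> rcases hh with ⟨h1, h2⟩ | ⟨h1, h2⟩ <;> rw [h1, h2, g1, g2] <;> simp
  one_mem' := by simp
  inv_mem' := by
    intro g hg
    simp only [Set.mem_ofPred_eq, map_inv] at *
    rcases hg with ⟨g1, g2⟩ | ⟨g1, g2⟩
    · left
      constructor
      · nth_rewrite 1 [← g1]; exact pinv_apply _ _
      · nth_rewrite 1 [← g2]; exact pinv_apply _ _
    · right
      constructor
      · nth_rewrite 1 [← g2]; exact pinv_apply _ _
      · nth_rewrite 1 [← g1]; exact pinv_apply _ _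

theorem mem_K {g : Fi24} : g ∈ K ↔ (rho g 0 = 0 ∧ rho g 136 = 136) ∨ (rho g 0 = 136 ∧ rho g 136 = 0) := Iff.rfl

/-- **The context.** -/
noncomputable def X : Ctx Fi24 where
  ρ := rho
  PT := bits (2 ^ 19) UG
  com := Com
  t := tp
  a := 0
  b := 136
  K := K
  mem g {p} hp := by
    rw [mem_bits] at hp ⊢
    have := bit_act g hp.2
    exact ⟨lt_of_bit this, this⟩
  symm h := h.symm
  inv g {_ _} h := h.act g
  com_mem {c _} h := by rw [mem_bits]; exact ⟨lt_of_bit h.1, h.1⟩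
  ne h := h.2.2.1
  trans {c d c' d'} h h' := by
    have hne : tp c ≠ tp d := by
      intro he
      have h1 := isPt_tp h.1
      rw [he] at h1
      exact h.2.2.1 (h1.uniq (isPt_tp h.2.1))
    have hne' : tp c' ≠ tp d' := by
      intro he
      have h1 := isPt_tp h'.1
      rw [he] at h1
      exact h'.2.2.1 (h1.uniq (isPt_tp h'.2.1))
    obtain ⟨g, -, h1, h2⟩ := Cfsg.Agent.R08.FiTwentyFour.trans2 (tp_mem h.1) (tp_mem h.2.1) (tp_mem h'.1)
      (tp_mem h'.2.1) hne h.2.2.2 hne' h'.2.2.2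
    refine ⟨g, ?_, ?_⟩
    · exact (isPt_tp h.1).rho_eq (isPt_tp h'.1) h1
    · exact (isPt_tp h.2.1).rho_eq (isPt_tp h'.2.1) h2
  ht g {p} hp := by
    rw [mem_bits] at hp
    exact tp_act g hp.2
  hab := com_lj
  hK g hg := hg

theorem mem_PT {p : ℕ} : p ∈ X.PT ↔ UG.testBit p = true := by
  show p ∈ bits (2 ^ 19) UG ↔ _
  rw [mem_bits]
  exact ⟨fun h => h.2, fun h => ⟨lt_of_bit h, h⟩⟩

theorem com_iff {c d : ℕ} : X.com c d ↔ Com c d := Iff.rfl

theorem tr : X.Tr where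
  fix {c} hc := by
    rw [mem_PT] at hc
    exact ((isPt_tp hc).comm_iff _).1 rfl
  com {c x} h := Com.fix h
  non {c x} hc hx hne hn := by
    rw [mem_PT] at hc hx
    have h1 := (isPt_tp hx).conj (tp c)
    have h2 := (isPt_tp hc).conj (tp x)
    have h3 : tp c * tp x * (tp c)⁻¹ = tp x * tp c * (tp x)⁻¹ := by
      have i1 : (tp c)⁻¹ = tp c := inv_eq_of_mul_eq_one_left (Cfsg.Agent.R08.FiTwentyFour.sq (tp_mem hc))
      have i2 : (tp x)⁻¹ = tp x := inv_eq_of_mul_eq_one_left (Cfsg.Agent.R08.FiTwentyFour.sq (tp_mem hx))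
      rw [i1, i2]
      rcases Cfsg.Agent.R08.FiTwentyFour.three (tp_mem hc) (tp_mem hx) with h | h
      · exact absurd (show X.com c x from ⟨hc, hx, hne, h⟩) hn
      · exact h
    rw [h3] at h1
    exact h1.uniq h2
  sq {c} hc := by
    rw [mem_PT] at hc
    exact Cfsg.Agent.R08.FiTwentyFour.sq (tp_mem hc)

end Cfsg.Agent.H30.FiE
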