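import Cfsg.Agent.H30.FiE.Row

/-! # `Fi24` on the commuting pairs of transpositions: data (helper30). Generated. -/

set_option autoImplicit false
set_option maxRecDepth 100000
set_option Elab.async false

namespace Cfsg.Agent.H30.FiE

open Cfsg Cfsg.Agent.Lib.PermNet Cfsg.Agent.Lib.PermNetPt Cfsg.Agent.Lib.PermNetOrbit
open Cfsg.Agent.Fischer.Fi24RepDef Cfsg.Agent.Fischer.Fi24Rep
open Cfsg.Agent.Fischer.Fi24RepOrb (UG)
open Cfsg.Agent.Fischer.Fi24RepOrbData (UW)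
open Cfsg.Spor (Fi24)
open Cfsg.Spor.Fi24 (Gen)
open Cfsg.Agent.H30.PairFn.Ctx (Ent)

def g0 : List Gen := [.l, .g, .f, .k, .a, .e, .b, .d, .c, .d, .b, .e, .a, .k, .f, .g, .l, .g, .f, .k, .a, .e, .b, .d, .c, .d, .b, .e, .a, .k, .f, .g, .j, .g, .f, .k, .a, .e, .b, .d, .c, .d, .b, .e, .a, .k, .f, .g]
def g1 : List Gen := [.b]
def g2 : List Gen := [.c]
def g3 : List Gen := [.a]
def g4 : List Gen := [.d]
def g5 : List Gen := [.h]
def g6 : List Gen := [.e]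
def g7 : List Gen := [.i]
def g8 : List Gen := [.f]
def g9 : List Gen := [.g, .b, .f, .j, .e, .g, .d, .f, .c, .e, .h, .d, .h, .e, .c, .f, .d, .g, .e, .j, .f, .b, .g]
def g10 : List Gen := [.h, .d, .h]
def g11 : List Gen := [.e, .f, .e]
def g12 : List Gen := [.c, .e, .h, .d, .h, .e, .c]
def g13 : List Gen := [.e, .h, .d, .h, .e]
def g14 : List Gen := [.d, .i, .h, .i, .d]
def g15 : List Gen := [.e, .d, .e]
def g16 : List Gen := [.g, .f, .j, .e, .g, .h, .d, .f, .i, .c, .e, .h, .d, .h, .e, .c, .i, .f, .d, .h, .g, .e, .j, .f, .g]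
def g17 : List Gen := [.c, .b, .c]
def g18 : List Gen := [.g, .h, .b, .d, .f, .j, .a, .c, .e, .g, .b, .d, .f, .c, .e, .h, .d, .h, .e, .c, .f, .d, .b, .g, .e, .c, .a, .j, .f, .d, .b, .h, .g]
def g19 : List Gen := [.d, .e, .h, .d, .f, .i, .c, .e, .h, .d, .h, .e, .c, .i, .f, .d, .h, .e, .d]
def g20 : List Gen := [.g, .f, .j, .e, .g, .d, .f, .c, .e, .h, .d, .h, .e, .c, .f, .d, .g, .e, .j, .f, .g]
def g21 : List Gen := [.b, .a, .c, .b, .d, .c, .e, .h, .d, .h, .e, .c, .d, .b, .c, .a, .b]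
def g22 : List Gen := [.h, .i, .h]
def g23 : List Gen := [.d, .c, .e, .h, .d, .h, .e, .c, .d]
def g24 : List Gen := [.d, .f, .e, .f, .d]
def g25 : List Gen := [.f, .e, .g, .h, .d, .f, .j, .c, .e, .g, .b, .d, .f, .c, .e, .h, .d, .h, .e, .c, .f, .d, .b, .g, .e, .c, .j, .f, .d, .h, .g, .e, .f]
def g26 : List Gen := [.c, .e, .d, .e, .c]
def g27 : List Gen := [.d, .f, .c, .e, .g, .b, .d, .f, .j, .e, .g, .h, .d, .f, .i, .c, .e, .h, .d, .h, .e, .c, .i, .f, .d, .h, .g, .e, .j, .f, .d, .b, .g, .e, .c, .f, .d]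
def g28 : List Gen := [.d, .c, .h, .b, .d, .i, .c, .e, .h, .d, .h, .e, .c, .i, .d, .b, .h, .c, .d]
def g29 : List Gen := [.f, .e, .g, .h, .d, .f, .j, .c, .e, .g, .b, .d, .f, .i, .c, .e, .h, .d, .h, .e, .c, .i, .f, .d, .b, .g, .e, .c, .j, .f, .d, .h, .g, .e, .f]
def g30 : List Gen := [.h, .d, .c, .e, .b, .d, .f, .c, .e, .h, .d, .h, .e, .c, .f, .d, .b, .e, .c, .d, .h]
def g31 : List Gen := [.h, .d, .f, .i, .c, .e, .h, .b, .d, .f, .c, .e, .g, .h, .b, .d, .f, .j, .a, .c, .e, .g, .h, .b, .d, .f, .i, .c, .e, .h, .d, .h, .e, .c, .i, .f, .d, .b, .h, .g, .e, .c, .a, .j, .f, .d, .b, .h, .g, .e, .c, .f, .d, .b, .h, .e, .c, .i, .f, .d, .h]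
def g32 : List Gen := [.g, .f, .k, .a, .e, .b, .d, .c, .d, .b, .e, .a, .k, .f, .g, .l, .g, .f, .k, .a, .e, .b, .d, .c, .d, .b, .e, .a, .k, .f, .g, .j, .g, .f, .k, .a, .e, .b, .d, .c, .d, .b, .e, .a, .k, .f, .g, .l]
def g33 : List Gen := [.l]
def g34 : List Gen := [.j]
def g35 : List Gen := [.c, .h, .d, .h, .c]
def g36 : List Gen := [.c, .d, .c]
def g37 : List Gen := [.g, .b, .f, .j, .a, .c, .e, .g, .b, .d, .f, .c, .e, .h, .d, .h, .e, .c, .f, .d, .b, .g, .e, .c, .a, .j, .f, .b, .g]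
def g38 : List Gen := [.f, .i, .e, .h, .d, .h, .e, .i, .f]
def g39 : List Gen := [.b, .d, .a, .c, .h, .b, .d, .i, .c, .e, .h, .d, .h, .e, .c, .i, .d, .b, .h, .c, .a, .d, .b]
def g40 : List Gen := [.g, .d, .f, .j, .e, .g, .h, .d, .f, .i, .c, .e, .h, .d, .h, .e, .c, .i, .f, .d, .h, .g, .e, .j, .f, .d, .g]
def g41 : List Gen := [.b, .a, .c, .b, .d, .f, .c, .e, .h, .d, .h, .e, .c, .f, .d, .b, .c, .a, .b]
def g42 : List Gen := [.e, .d, .i, .h, .i, .d, .e]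
def g43 : List Gen := [.f, .e, .g, .d, .f, .j, .e, .g, .h, .d, .f, .i, .c, .e, .h, .d, .h, .e, .c, .i, .f, .d, .h, .g, .e, .j, .f, .d, .g, .e, .f]
def g44 : List Gen := [.f, .c, .e, .g, .d, .f, .j, .e, .g, .h, .d, .f, .i, .c, .e, .h, .d, .h, .e, .c, .i, .f, .d, .h, .g, .e, .j, .f, .d, .g, .e, .c, .f]
def g45 : List Gen := [.b, .d, .i, .c, .e, .h, .d, .h, .e, .c, .i, .d, .b]
def g46 : List Gen := [.f, .e, .g, .d, .f, .j, .c, .e, .g, .b, .d, .f, .c, .e, .h, .d, .h, .e, .c, .f, .d, .b, .g, .e, .c, .j, .f, .d, .g, .e, .f]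
def g47 : List Gen := [.g, .d, .f, .j, .c, .e, .g, .b, .d, .f, .c, .e, .h, .d, .h, .e, .c, .f, .d, .b, .g, .e, .c, .j, .f, .d, .g]

def w0 : List Gen := []
def w1 : List Gen := [.k, .l, .a, .k]
def w4 : List Gen := [.k, .l, .a, .k, .b, .c, .a, .d, .b, .h, .c, .d]
def w8 : List Gen := [.k, .l, .a, .k, .b, .c, .a, .d, .b, .e, .c, .f, .d, .g, .e, .f]
def w136 : List Gen := [.k, .l, .a, .k, .b, .c, .a, .d, .b, .e, .c, .f, .d, .g, .e, .j, .f, .g]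
def w484 : List Gen := [.k, .l, .a, .b, .c, .d, .h, .e, .i, .k, .f, .d, .h, .g, .c, .d, .e, .f]
def w492 : List Gen := [.k, .l, .a, .b, .c, .d, .h, .e, .i, .k, .f, .d, .h, .g, .c, .d, .e, .f, .g]
def w768 : List Gen := [.k, .l, .a, .b, .c, .d, .e, .f, .g, .j, .k]
def w2624 : List Gen := [.k, .l, .a, .k, .b, .c, .d]
def w2640 : List Gen := [.k, .l, .a, .k, .b, .c, .d, .h]
def w2641 : List Gen := [.k, .l, .a, .k, .b, .c, .d, .h, .a]
def w3232 : List Gen := [.k, .l, .a, .k, .b, .c, .d, .e, .f]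
def w3240 : List Gen := [.k, .l, .a, .k, .b, .c, .d, .e, .f, .g]
def w3241 : List Gen := [.k, .l, .a, .k, .b, .c, .d, .e, .f, .g, .a]
def w3256 : List Gen := [.k, .l, .a, .k, .b, .c, .d, .h, .e, .f, .g]
def w3612 : List Gen := [.k, .a, .b, .c, .d, .h, .e, .i, .f, .d, .h, .g, .e, .c, .f, .d, .b, .h, .e, .a, .i, .j, .k, .f, .d, .h, .g]
def w9017 : List Gen := [.k, .l, .a, .b, .c, .d, .h, .e, .f, .d, .g, .e, .c, .j, .k, .f, .d, .h, .g, .a]
def w33337 : List Gen := [.k, .l, .a, .b, .c, .d, .h, .e, .i, .f, .d, .h, .e, .c, .d, .h, .g, .e, .c, .f, .b, .g, .a]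
def w33872 : List Gen := [.k, .a, .b, .c, .d, .h, .e, .i, .f, .d, .h, .e, .c, .d, .h, .g, .e, .c, .i, .f, .d, .b, .g, .l, .a]
def w155969 : List Gen := [.k, .a, .b, .c, .d, .h, .e, .i, .f, .d, .h, .g, .e, .c, .f, .d, .b, .h, .e, .c, .d, .b, .h, .e, .c, .a, .k, .i, .j, .f, .d, .h, .g, .e, .f, .d, .c, .b, .a]
def w155977 : List Gen := [.k, .a, .b, .c, .d, .h, .e, .i, .f, .d, .h, .g, .e, .c, .f, .d, .b, .h, .e, .c, .f, .d, .h, .e, .c, .i, .j, .d, .b, .h, .g, .c, .a, .k, .d, .b, .e, .a, .k, .f]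
def w158657 : List Gen := [.k, .a, .b, .c, .d, .h, .e, .i, .f, .d, .h, .g, .e, .c, .f, .d, .b, .h, .e, .c, .f, .d, .h, .e, .c, .i, .j, .d, .b, .h, .g, .c, .a, .k, .d, .b, .e, .a, .f]
def w158665 : List Gen := [.k, .a, .b, .c, .d, .h, .e, .i, .f, .d, .h, .g, .e, .c, .f, .d, .b, .h, .e, .c, .f, .d, .h, .e, .c, .i, .j, .d, .b, .h, .g, .c, .a, .k, .d, .e, .f, .b, .g, .a]
def w189549 : List Gen := [.k, .l, .a, .b, .c, .d, .h, .e, .i, .f, .d, .h, .e, .c, .d, .h, .g, .e, .c, .i, .b, .a]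
def w189665 : List Gen := [.k, .l, .a, .b, .c, .d, .h, .e, .i, .f, .d, .h, .e, .c, .d, .h, .e, .c, .f, .d, .b, .a]
def w189793 : List Gen := [.k, .l, .a, .b, .c, .d, .h, .e, .i, .f, .d, .h, .e, .c, .d, .h, .g, .e, .c, .i, .f, .b, .a]
def w189809 : List Gen := [.k, .l, .a, .b, .c, .d, .h, .e, .i, .f, .d, .h, .e, .c, .d, .h, .g, .e, .c, .f, .d, .b, .a]
def w227553 : List Gen := [.k, .l, .a, .b, .c, .d, .h, .e, .i, .f, .d, .h, .e, .c, .d, .e, .c, .f, .b, .a]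
def w227581 : List Gen := [.k, .l, .a, .b, .c, .d, .h, .e, .i, .f, .d, .h, .e, .c, .d, .h, .e, .c, .i, .d, .b, .h, .g, .a]
def w228357 : List Gen := [.k, .a, .b, .c, .d, .h, .e, .i, .f, .d, .h, .g, .e, .c, .j, .d, .b, .h, .e, .c, .f, .d, .b, .g, .e, .a, .f]
def w246600 : List Gen := [.k, .a, .b, .c, .d, .h, .e, .i, .f, .d, .g, .c, .b]
def w246617 : List Gen := [.k, .a, .b, .c, .d, .h, .e, .i, .f, .d, .h, .g, .c, .b, .a]
def w246795 : List Gen := [.k, .a, .b, .c, .d, .h, .e, .i, .f, .d, .h, .g, .e, .c, .j, .d, .b, .h, .e, .c, .f, .d, .g, .a]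
def w246810 : List Gen := [.k, .a, .b, .c, .d, .h, .e, .i, .f, .d, .h, .g, .e, .c, .j, .d, .b, .h, .e, .c, .f, .d, .h, .g]
def w266008 : List Gen := [.k, .a, .b, .c, .d, .h, .e, .i, .f, .d, .h, .g]
def w266009 : List Gen := [.k, .a, .b, .c, .d, .h, .e, .i, .f, .d, .h, .e, .c, .d, .h, .g]
def w266040 : List Gen := [.k, .l, .a, .b, .c, .d, .h, .e, .i, .f, .d, .h, .g]
def w266408 : List Gen := [.k, .a, .b, .c, .d, .h, .e, .i, .f, .d, .h, .g, .e, .c, .d, .e, .c, .b, .a, .k, .j, .f, .l, .g]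
def w268431 : List Gen := [.k, .a, .b, .c, .d, .h, .e, .i, .f, .d, .h, .g, .e, .f, .d, .e, .c, .d, .b, .h, .e, .c, .a, .i, .j, .f, .d, .b, .g, .e, .c]
def w296072 : List Gen := [.k, .a, .b, .c, .d, .h, .e, .i, .f, .d, .h, .g, .e, .c, .j, .f, .d, .b, .h, .g, .e, .c, .f, .d, .b, .h, .e, .c, .a, .i, .d, .b, .h, .c, .d, .e, .f]
def w300300 : List Gen := [.k, .a, .b, .c, .d, .h, .e, .i, .f, .d, .h, .g, .e, .c, .j, .d, .b, .h, .e, .c, .f, .d, .b, .g, .e, .a, .k, .f, .g]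
def w301836 : List Gen := [.k, .a, .b, .c, .d, .h, .e, .f, .d, .g, .e, .c, .d, .b]
def w301870 : List Gen := [.k, .l, .a, .b, .c, .d, .h, .e, .f, .d, .g, .e, .c, .d, .b, .c]
def w306433 : List Gen := [.k, .a, .b, .c, .d, .h, .e, .i, .d, .c, .b, .a]
def w306448 : List Gen := [.k, .a, .b, .c, .d, .h, .e, .i, .d, .h, .c, .b]
def w306768 : List Gen := [.k, .a, .b, .c, .d, .h, .e, .i, .d, .h]
def w307464 : List Gen := [.k, .a, .b, .c, .d, .e, .f, .g]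
def w307480 : List Gen := [.k, .a, .b, .c, .d, .h, .e, .f, .g]
def w307488 : List Gen := [.k, .l, .a, .b, .c, .d, .e, .f]
def w307496 : List Gen := [.k, .l, .a, .b, .c, .d, .e, .f, .g]
def w307512 : List Gen := [.k, .l, .a, .b, .c, .d, .h, .e, .f, .g]
def w307840 : List Gen := [.k]
def w307872 : List Gen := [.k, .l]
def w307968 : List Gen := [.k, .a, .b]
def w308257 : List Gen := [.k, .l, .a, .b, .c, .d, .h, .e, .i, .f, .d, .h, .g, .c, .d, .e, .f]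
def w308265 : List Gen := [.k, .l, .a, .b, .c, .d, .h, .e, .i, .f, .d, .h, .g, .c, .d, .e, .f, .g]
def w308352 : List Gen := [.k, .a, .b, .c, .d, .e, .f, .g, .j]
def w308368 : List Gen := [.k, .a, .b, .c, .d, .h, .e, .f, .g, .j]
def w308384 : List Gen := [.k, .l, .a, .b, .c, .d, .e, .f, .g, .j]

def r0 : List (List Gen) := [g0]
def r1 : List (List Gen) := [g1, g2, g3, g4, g5, g6, g1, g2, g7, g8, g4, g2, g5, g6, g9, g2, g3, g4, g5, g6, g1, g2, g7, g10, g11, g2, g5, g6, g1, g3, g4, g2]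
def r2 : List (List Gen) := [g8, g6, g4, g5, g2, g7, g1, g3, g4, g6, g2, g5, g8, g4, g12, g6, g1, g2, g3, g5, g8, g7, g13, g5, g6, g2, g9, g2, g3, g7, g5, g4, g6, g2, g5, g8, g1, g3, g0, g5, g2, g4, g2, g5, g1, g9]
def r3 : List (List Gen) := [g5, g14, g6, g2, g4, g11, g12, g6, g1, g3, g2, g7, g10, g5, g6, g2, g1, g2, g3, g7, g10, g11, g6, g2, g5, g4, g6, g2, g5, g9, g2, g3, g7, g5, g4, g6, g5, g2, g1, g2, g3, g8, g15, g2, g6, g7]
def q00 : List (List Gen) := [g1, g2, g3, g4, g5, g6, g1, g2, g7, g8, g4, g2, g5, g6, g16, g5, g1, g2, g3, g4, g6, g2, g5, g8, g14, g6, g2, g4, g17, g3, g2, g6, g7, g8]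
def q01 : List (List Gen) := [g5, g3, g14, g6, g2, g4, g11, g12, g6, g1, g2, g3, g7, g10, g5, g2, g6, g16, g5, g1, g2, g3, g4, g6, g2, g5, g7, g5, g8, g6, g1, g4, g3, g2, g16]
def q02 : List (List Gen) := []
def q10 : List (List Gen) := [g7, g5, g4, g6, g2, g5, g8, g4, g6, g5, g18, g5, g6, g2, g7, g10, g5, g2, g6, g8, g18, g6, g7, g5, g19]
def q11 : List (List Gen) := [g0]
def q12 : List (List Gen) := [g2, g4, g5, g6, g7, g8, g4, g2, g5, g6, g20, g7, g5, g4, g6, g2, g5, g21, g8, g6, g7, g5, g4, g2, g5, g6, g0, g5, g4, g22, g6, g5, g2, g23]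
def q13 : List (List Gen) := [g5, g14, g6, g2, g4, g11, g12, g6, g7, g5, g20, g7, g5, g4, g2, g5, g21, g7, g5, g8, g6, g4, g2, g6, g5, g8, g14, g6, g2, g8, g21, g7, g5, g24]
def q20 : List (List Gen) := [g3, g1, g2, g4, g5, g6, g7, g4, g2, g5, g1, g3, g4, g6, g2, g25, g5, g3, g7, g5, g4, g6, g2, g5, g1, g2, g4, g22, g26, g5, g2, g1, g3]
def q21 : List (List Gen) := []
def q22 : List (List Gen) := [g1, g2, g3, g4, g5, g6, g1, g2, g7, g4, g5, g2, g27, g3, g5, g6, g1, g2, g3, g4, g5, g2, g6, g28]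
def q23 : List (List Gen) := [g5, g14, g6, g2, g4, g12, g1, g3, g2, g5, g7, g10, g5, g6, g1, g2, g7, g4, g5, g2, g25, g5, g3, g7, g5, g4, g6, g2, g5, g1, g2, g4, g3, g2, g29, g5]
def q24 : List (List Gen) := [g5, g3, g14, g6, g2, g4, g12, g1, g2, g7, g3, g5, g4, g6, g5, g29, g5, g3, g7, g5, g4, g6, g5, g2, g4, g5]
def q25 : List (List Gen) := [g5, g6, g2, g3, g7, g5, g4, g5, g6, g2, g1, g3, g2, g4, g6, g2, g25]
def q30 : List (List Gen) := []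
def q31 : List (List Gen) := [g3, g1, g2, g4, g6, g30, g3, g7, g1, g2, g8, g20, g1, g3, g2, g7, g4, g6, g17, g2, g8, g30, g3, g31, g6, g3, g32, g7, g1, g2, g4]
def q32 : List (List Gen) := [g1, g2, g3, g4, g6, g1, g2, g8, g20, g7, g1, g2, g4, g6, g31, g6, g3, g2, g31]
def q33 : List (List Gen) := [g7, g4, g6, g2, g8, g1, g3, g4, g2, g6, g20, g1, g2, g3, g7, g4, g6, g17, g2, g8, g30, g3, g7, g4, g1, g2, g20, g1]
def q34 : List (List Gen) := [g6, g2, g4, g6, g2, g8, g1, g3, g2, g6, g4, g17, g6, g2, g20, g7, g1, g3, g2, g4, g6, g1, g2, g8, g30, g3, g7, g1, g2, g4, g6, g20, g17, g2]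
def s0_0 : List (List Gen) := [g5, g33, g34, g14, g6, g2, g4, g11, g12, g6, g1, g3, g2, g7, g10, g5, g2, g6, g1, g3, g7, g35, g2, g6, g5, g8, g20, g7, g5, g1, g2, g3, g4, g6, g2, g5, g1, g8, g3, g36, g6, g2, g7]
def s3_0 : List (List Gen) := [g5, g6, g3, g8, g14, g2, g6, g20, g14, g6, g2, g23, g8, g21, g8, g6, g14, g6, g2, g21, g8, g14]
def s3_1 : List (List Gen) := [g5, g3, g34, g14, g6, g2, g8, g23, g8, g6, g14, g2, g6, g37, g14, g6, g2, g8, g21, g8, g6, g14, g6, g2, g21, g8, g14]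
def s3_2 : List (List Gen) := [g5, g33, g3, g8, g6, g23, g38, g2, g8, g20, g14, g6, g2, g8, g21, g8, g6, g14, g6, g2, g8, g37, g14, g6, g2, g8, g14, g6, g23]
def s3_3 : List (List Gen) := [g5, g33, g6, g3, g34, g8, g14, g2, g6, g23, g8, g6, g20, g14, g2, g37, g14, g6, g2, g8, g39, g6, g2, g8, g6, g14, g2, g6, g8, g40, g6]
def s3_4 : List (List Gen) := [g5, g33, g2, g34, g8, g6, g14, g6, g2, g8, g20, g14, g6, g21, g8, g6, g14, g6, g2, g8, g20, g14, g6, g2, g41, g6, g14, g6, g2, g37]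
def s3_5 : List (List Gen) := [g5, g33, g6, g3, g8, g14, g2, g6, g39, g6, g8, g42, g6, g2]
def s7_0 : List (List Gen) := [g5, g14, g6, g2, g4, g12, g1, g2, g7, g5, g4, g6, g5, g43, g2, g1, g2, g4, g5, g6, g2, g7, g4, g5, g2, g1, g4, g2]
def s7_1 : List (List Gen) := [g5, g14, g6, g2, g4, g12, g1, g2, g7, g5, g4, g6, g5, g43, g2, g1, g2, g4, g5, g6, g2, g7, g4, g5, g2, g1, g4, g2]
def s7_2 : List (List Gen) := [g5, g14, g6, g2, g4, g12, g1, g2, g7, g5, g4, g6, g5, g43, g2, g1, g2, g4, g5, g6, g2, g7, g4, g5, g2, g1, g4, g2]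
def s7_3 : List (List Gen) := [g5, g14, g6, g2, g4, g12, g1, g2, g7, g5, g4, g6, g5, g43, g2, g1, g2, g4, g5, g6, g2, g7, g4, g5, g2, g1, g4, g2]
def s7_4 : List (List Gen) := [g4, g5, g6, g2, g1, g2, g4, g5, g6, g2, g7, g5, g4, g12, g1, g2, g6, g7, g10, g5, g6, g2, g43, g2, g1, g2, g4, g5, g6, g2, g7, g5, g4]
def s7_5 : List (List Gen) := [g4, g5, g6, g2, g1, g2, g4, g5, g6, g2, g7, g5, g4, g12, g1, g2, g6, g7, g10, g5, g6, g2, g43, g2, g1, g2, g4, g5, g6, g2, g7, g5, g4]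
def s7_6 : List (List Gen) := [g5, g2, g4, g6, g5, g2, g7, g5, g1, g2, g4, g5, g2, g6, g43, g2, g1, g2, g4, g5, g6, g2, g7, g4, g5, g2, g43, g2, g4, g2]
def s7_7 : List (List Gen) := [g6, g2, g7, g5, g4, g5, g6, g2, g1, g2, g14, g2, g6, g43, g2, g1, g2, g4, g5, g6, g2, g7, g10, g5, g2, g43, g2, g4, g2]
def s7_8 : List (List Gen) := [g6, g2, g7, g5, g4, g5, g6, g2, g1, g2, g4, g22, g2, g5, g6, g4, g5, g6, g17, g2, g7, g4, g2, g5, g6, g43, g2, g1, g2, g4, g5, g6, g2, g7, g10, g2, g5, g1, g44]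
def s7_9 : List (List Gen) := [g5, g6, g2, g4, g5, g6, g2, g7, g5, g1, g2, g4, g5, g2, g6, g45, g5, g2, g7, g1, g43, g2, g1, g2, g4, g5, g6, g2, g7, g4, g2, g1, g5, g46]
def s7_10 : List (List Gen) := [g5, g2, g7, g5, g4, g5, g6, g2, g1, g2, g4, g5, g6, g2, g7, g5, g4, g17, g5, g2, g6, g43, g2, g1, g2, g4, g12]
def s7_11 : List (List Gen) := [g5, g6, g2, g4, g5, g6, g2, g7, g5, g1, g2, g4, g6, g5, g2, g45, g35]
def s7_12 : List (List Gen) := [g5, g6, g2, g4, g5, g6, g2, g7, g5, g1, g2, g4, g6, g5, g2, g45, g35]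
def s10_0 : List (List Gen) := []
def s10_1 : List (List Gen) := []
def s10_2 : List (List Gen) := [g6, g3, g7, g24, g2, g8, g1, g2, g20, g1, g2, g3, g7, g4, g6, g17, g2, g8, g30, g3, g7, g4, g6, g1, g20, g1]
def s10_3 : List (List Gen) := []
def s10_4 : List (List Gen) := []
def s10_5 : List (List Gen) := [g7, g4, g6, g2, g8, g1, g3, g4, g2, g6, g20, g1, g2, g3, g7, g4, g6, g17, g2, g8, g30, g3, g7, g4, g1, g2, g20, g1]
def s10_6 : List (List Gen) := [g2, g8, g6, g4, g6, g17, g3, g2, g8, g4, g2, g1, g6, g2, g20, g7, g1, g2, g3, g4, g6, g1, g2, g30, g3, g7, g8, g1, g2, g4, g6, g2, g20, g1, g2]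
def s10_7 : List (List Gen) := [g2, g8, g6, g4, g6, g17, g3, g2, g8, g4, g2, g1, g6, g2, g20, g7, g1, g2, g3, g4, g6, g1, g2, g30, g3, g7, g8, g1, g2, g4, g6, g2, g20, g1, g2]
def s10_8 : List (List Gen) := [g6, g2, g4, g6, g2, g8, g1, g3, g2, g6, g4, g17, g6, g2, g20, g7, g1, g3, g2, g4, g6, g1, g2, g8, g30, g3, g7, g1, g2, g4, g6, g20, g17, g2]
def s10_9 : List (List Gen) := [g6, g2, g4, g6, g2, g8, g1, g3, g2, g6, g4, g17, g6, g2, g20, g7, g1, g3, g2, g4, g6, g1, g2, g8, g30, g3, g7, g1, g2, g4, g6, g20, g17, g2]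
def s10_10 : List (List Gen) := [g6, g2, g7, g8, g6, g1, g2, g3, g4, g6, g2, g1, g2, g3, g24, g2, g20, g7, g1, g2, g3, g4, g6, g1, g2, g8, g30, g3, g7, g1, g2, g47, g6, g3, g7, g4, g6]

noncomputable def R0 : ℕ := sqp r0 0
noncomputable def R1 : ℕ := sqp r1 1
noncomputable def R2 : ℕ := sqp r2 8
noncomputable def R3 : ℕ := sqp r3 307496
noncomputable def Q00 : ℕ := sqp q00 1
noncomputable def Q01 : ℕ := sqp q01 3240
noncomputable def Q02 : ℕ := sqp q02 136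
noncomputable def Q10 : ℕ := sqp q10 4
noncomputable def Q11 : ℕ := sqp q11 0
noncomputable def Q12 : ℕ := sqp q12 307968
noncomputable def Q13 : ℕ := sqp q13 307464
noncomputable def Q20 : ℕ := sqp q20 307872
noncomputable def Q21 : ℕ := sqp q21 0
noncomputable def Q22 : ℕ := sqp q22 1
noncomputable def Q23 : ℕ := sqp q23 308352
noncomputable def Q24 : ℕ := sqp q24 768
noncomputable def Q25 : ℕ := sqp q25 296072
noncomputable def Q30 : ℕ := sqp q30 308352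
noncomputable def Q31 : ℕ := sqp q31 307840
noncomputable def Q32 : ℕ := sqp q32 1
noncomputable def Q33 : ℕ := sqp q33 307480
noncomputable def Q34 : ℕ := sqp q34 266040
noncomputable def e00 : Ent := ⟨Q00, 1, 693, 1⟩
noncomputable def e01 : Ent := ⟨Q01, 3240, 351, 2⟩
noncomputable def e02 : Ent := ⟨Q02, 136, 3510, 0⟩
noncomputable def e10 : Ent := ⟨Q10, 4, 4180, 1⟩
noncomputable def e11 : Ent := ⟨Q11, 0, 693, 0⟩
noncomputable def e12 : Ent := ⟨Q12, 307968, 8126, 2⟩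
noncomputable def e13 : Ent := ⟨Q13, 307464, 12063, 3⟩
noncomputable def e20 : Ent := ⟨Q20, 307872, 16108, 2⟩
noncomputable def e21 : Ent := ⟨Q21, 0, 351, 0⟩
noncomputable def e22 : Ent := ⟨Q22, 1, 8126, 1⟩
noncomputable def e23 : Ent := ⟨Q23, 308352, 24036, 3⟩
noncomputable def e24 : Ent := ⟨Q24, 768, 16063, 2⟩
noncomputable def e25 : Ent := ⟨Q25, 296072, 16000, 2⟩
noncomputable def e30 : Ent := ⟨Q30, 308352, 36360, 3⟩
noncomputable def e31 : Ent := ⟨Q31, 307840, 24036, 2⟩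
noncomputable def e32 : Ent := ⟨Q32, 1, 12063, 1⟩
noncomputable def e33 : Ent := ⟨Q33, 307480, 36072, 3⟩
noncomputable def e34 : Ent := ⟨Q34, 266040, 36036, 3⟩
noncomputable def S0_0 : SEnt := ⟨sqp s0_0 307496, 36360⟩
noncomputable def S3_0 : SEnt := ⟨sqp s3_0 2641, 4180⟩
noncomputable def S3_1 : SEnt := ⟨sqp s3_1 3256, 16063⟩
noncomputable def S3_2 : SEnt := ⟨sqp s3_2 306448, 16063⟩
noncomputable def S3_3 : SEnt := ⟨sqp s3_3 246617, 36036⟩
noncomputable def S3_4 : SEnt := ⟨sqp s3_4 301870, 36072⟩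
noncomputable def S3_5 : SEnt := ⟨sqp s3_5 246795, 36360⟩
noncomputable def S7_0 : SEnt := ⟨sqp s7_0 3240, 16108⟩
noncomputable def S7_1 : SEnt := ⟨sqp s7_1 3232, 12063⟩
noncomputable def S7_2 : SEnt := ⟨sqp s7_2 307488, 16108⟩
noncomputable def S7_3 : SEnt := ⟨sqp s7_3 307496, 12063⟩
noncomputable def S7_4 : SEnt := ⟨sqp s7_4 308257, 24036⟩
noncomputable def S7_5 : SEnt := ⟨sqp s7_5 484, 24036⟩
noncomputable def S7_6 : SEnt := ⟨sqp s7_6 227553, 24036⟩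
noncomputable def S7_7 : SEnt := ⟨sqp s7_7 189549, 24036⟩
noncomputable def S7_8 : SEnt := ⟨sqp s7_8 189809, 36036⟩
noncomputable def S7_9 : SEnt := ⟨sqp s7_9 33872, 36072⟩
noncomputable def S7_10 : SEnt := ⟨sqp s7_10 300300, 36036⟩
noncomputable def S7_11 : SEnt := ⟨sqp s7_11 155969, 36360⟩
noncomputable def S7_12 : SEnt := ⟨sqp s7_12 158665, 36036⟩
noncomputable def S10_0 : SEnt := ⟨sqp s10_0 0, 3510⟩
noncomputable def S10_1 : SEnt := ⟨sqp s10_1 136, 3510⟩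
noncomputable def S10_2 : SEnt := ⟨sqp s10_2 9017, 4180⟩
noncomputable def S10_3 : SEnt := ⟨sqp s10_3 308384, 36360⟩
noncomputable def S10_4 : SEnt := ⟨sqp s10_4 307464, 36360⟩
noncomputable def S10_5 : SEnt := ⟨sqp s10_5 307512, 36360⟩
noncomputable def S10_6 : SEnt := ⟨sqp s10_6 3612, 16108⟩
noncomputable def S10_7 : SEnt := ⟨sqp s10_7 306768, 16108⟩
noncomputable def S10_8 : SEnt := ⟨sqp s10_8 266408, 36036⟩
noncomputable def S10_9 : SEnt := ⟨sqp s10_9 266008, 36036⟩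
noncomputable def S10_10 : SEnt := ⟨sqp s10_10 268431, 36072⟩

/-- the representatives of the points -/
def cp : ℕ → ℕ
  | 0 => 0
  | 1 => 1
  | 2 => 8
  | _ => 307496

/-- the orbits -/
noncomputable def ent : ℕ → List Ent
  | 0 => [e00, e01, e02]
  | 1 => [e10, e11, e12, e13]
  | 2 => [e20, e21, e22, e23, e24, e25]
  | 3 => [e30, e31, e32, e33, e34]
  | _ => []

end Cfsg.Agent.H30.FiE
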