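import Cfsg.Agent.H30.FiE.Rows

/-!
# Degrees of `Fi24` from the commuting pairs of transpositions (helper30). Generated.
-/

set_option autoImplicit false
set_option maxRecDepth 100000
set_option linter.all false

namespace Cfsg.Agent.H30.FiE

open Cfsg Cfsg.Agent.Lib.PermNet Cfsg.Agent.Lib.PermNetPt Cfsg.Agent.Lib.PermNetOrbit
open Cfsg.Agent.Fischer.Fi24RepOrb (UG)
open Cfsg.Spor (Fi24)
open Cfsg.Agent.H30.PairFn (Ctx)
open Cfsg.Agent.H30.PairFn.Ctx (Ent Orbs IsFn KInv hf rs fn)
open scoped ComplexConjugate

attribute [local instance] Classical.propDecidable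


/-- the representative of a class -/
theorem exists_rep {k : ℕ} (hk : k ∈ [3510, 693, 351, 4180, 8126, 12063, 16063, 16108, 16000, 24036, 36360, 36072, 36036]) : ∃ x y, X.com x y ∧ X.cl x y = k := by
  have h2 : ∀ k ∈ [3510, 693, 351, 4180, 8126, 12063, 16063, 16108, 16000, 24036, 36360, 36072, 36036], ∃ τ < 4, ∃ e ∈ ent τ, e.k = k := by decide +kernel
  obtain ⟨τ, hτ, e, he, rfl⟩ := h2 k hk
  exact ⟨_, _, orbs.dcom τ hτ e he, orbs.cl τ hτ e he⟩

/-- the equations of an eigenfunction -/
theorem eqA {ψ : ℕ → ℕ → ℂ} {β : ℕ → ℂ} {t : ℂ} (hK : X.KInv ψ) (hβ : ∀ x y, X.com x y → ψ x y = β (X.cl x y))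
    (h : ∀ c d, X.com c d → X.A1 ψ c d = t * ψ c d) {k : ℕ} (hk : k ∈ [3510, 693, 351, 4180, 8126, 12063, 16063, 16108, 16000, 24036, 36360, 36072, 36036]) : rowA β k = t * β k := by
  obtain ⟨x, y, hxy, rfl⟩ := exists_rep hk
  rw [← A1_val hK hβ hxy, h x y hxy, hβ x y hxy]

/-- the numbers of points of the types -/
def ms : ℕ → ℕ
  | 0 => 2
  | 1 => 3510
  | 2 => 56320
  | _ => 247104

theorem rep_all' : peelB 19 (([(R0, 2, 0), (R1, 3510, 1), (R2, 56320, 2), (R3, 247104, 3)] : List (ℕ × ℕ × ℕ)).map
    fun p => (p.1, p.2.1)) UG = true := by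
  have h := rep_all
  simp only [List.map_cons, List.map_nil] at h ⊢
  exact h

theorem card_T {τ : ℕ} (hτ : τ < 4) : (X.PT.filter fun x => X.T x = τ).card = ms τ := by
  have h := peel_sum (k := 19) [(R0, 2, 0), (R1, 3510, 1), (R2, 56320, 2), (R3, 247104, 3)] (q := fun p => p.1)
    (s := fun p => p.2.1) (v := fun p => if p.2.2 = τ then (1 : ℂ) else 0)
    (F := fun x => if X.T x = τ then (1 : ℂ) else 0) (m := UG) (by
      intro i hi x hx _
      simp only [List.mem_cons, List.not_mem_nil, or_false] at hi
      have h1 : X.T x = i.2.2 := by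
        rcases hi with rfl | rfl | rfl | rfl
        · exact (orbR0 x hx).1
        · exact (orbR1 x hx).1
        · exact (orbR2 x hx).1
        · exact (orbR3 x hx).1
      simp only [h1]) UG_lt rep_all'
  have h0 : X.PT = bits (2 ^ 19) UG := rfl
  have h2 : ((X.PT.filter fun x => X.T x = τ).card : ℂ) = ∑ x ∈ X.PT, (if X.T x = τ then (1 : ℂ) else 0) := by
    rw [Finset.card_filter, Nat.cast_sum]
    refine Finset.sum_congr rfl fun x _ => ?_
    by_cases hx : X.T x = τ
    · rw [if_pos hx, if_pos hx, Nat.cast_one]
    · rw [if_neg hx, if_neg hx, Nat.cast_zero]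
  rw [h0] at h2
  rw [← h2] at h
  have h3 : (((X.PT.filter fun x => X.T x = τ).card : ℕ) : ℂ) = ((ms τ : ℕ) : ℂ) := by
    rw [h0, h]
    simp only [List.map_cons, List.map_nil, List.sum_cons, List.sum_nil]
    interval_cases τ <;> norm_num [ms]
  exact_mod_cast h3

/-- the sum of a function of the class -/
theorem sum_fn (w : ℕ → ℂ) : ∑ x ∈ X.PT, ∑ y ∈ X.PT, fn X X.cl w x y = 2 * (3510 * w 693 + 28160 * w 351 + 1 * w 3510) +
    3510 * (693 * w 4180 + 2 * w 693 + 5632 * w 8126 + 25344 * w 12063) +
    56320 * (728 * w 16108 + 1 * w 351 + 351 * w 8126 + 25272 * w 24036 + 3159 * w 16063 + 2160 * w 16000) +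
    247104 * (1 * w 36360 + 5760 * w 24036 + 360 * w 12063 + 3150 * w 36072 + 22400 * w 36036) := by
  have key : ∀ c, ∑ y ∈ X.PT, fn X X.cl w c y = ∑ y ∈ X.PT.filter (fun y => X.com c y), fn X X.cl w c y := by
    intro c
    rw [Finset.sum_filter]
    refine Finset.sum_congr rfl fun y _ => ?_
    by_cases h : X.com c y
    · rw [if_pos h]
    · rw [if_neg h]; exact if_neg h
  have h := orbs.sum_eq (orbs.kInv w) (m := ms) (fun τ hτ => card_T hτ) (s := fun τ => ∑ y ∈ X.PT, fn X X.cl w (cp τ) y)
    (fun τ _ => rfl)
  rw [h, Finset.sum_range_succ, Finset.sum_range_succ, Finset.sum_range_succ, Finset.sum_range_succ, Finset.sum_range_zero]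
  have e0 : ∑ y ∈ X.PT, fn X X.cl w (cp 0) y = _ := (key _).trans (rsF_0 (β := w) fun x hx => if_pos hx)
  have e1 : ∑ y ∈ X.PT, fn X X.cl w (cp 1) y = _ := (key _).trans (rsF_1 (β := w) fun x hx => if_pos hx)
  have e2 : ∑ y ∈ X.PT, fn X X.cl w (cp 2) y = _ := (key _).trans (rsF_2 (β := w) fun x hx => if_pos hx)
  have e3 : ∑ y ∈ X.PT, fn X X.cl w (cp 3) y = _ := (key _).trans (rsF_3 (β := w) fun x hx => if_pos hx)
  rw [e0, e1, e2, e3]
  simp only [ms]
  push_cast
  ring

theorem sum_one : ∑ x ∈ X.PT, ∑ y ∈ X.PT, X.ev 1 x y = 9720970056 := by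
  have e : ∀ x y, X.ev 1 x y = fn X X.cl (fun _ => 1) x y := fun x y => by
    by_cases h : X.com x y
    · rw [Ctx.ev_of h]; exact (if_pos h).symm
    · rw [Ctx.ev_not h]; exact (if_neg h).symm
  simp only [e]
  rw [sum_fn]
  norm_num

/-! ### The degree 79452373 -/

/-- the eigenfunction -/
def va (k : ℕ) : ℚ :=
  if k = 3510 then 1 else
  if k = 693 then 23/390 else
  if k = 351 then -13/1760 else
  if k = 4180 then 7/2145 else
  if k = 8126 then 5/13728 else
  if k = 12063 then -1/5720 else
  if k = 16063 then -1/5720 else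
  if k = 16108 then -23/45760 else
  if k = 16000 then 1/3520 else
  if k = 24036 then 1/137280 else
  if k = 36360 then 1/1716 else
  if k = 36072 then 1/17160 else
  if k = 36036 then -1/137280 else
  0
theorem va_3510 : va 3510 = 1 := by unfold va; norm_num only [if_true, if_false]
theorem va_693 : va 693 = 23/390 := by unfold va; norm_num only [if_true, if_false]
theorem va_351 : va 351 = -13/1760 := by unfold va; norm_num only [if_true, if_false]
theorem va_4180 : va 4180 = 7/2145 := by unfold va; norm_num only [if_true, if_false]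
theorem va_8126 : va 8126 = 5/13728 := by unfold va; norm_num only [if_true, if_false]
theorem va_12063 : va 12063 = -1/5720 := by unfold va; norm_num only [if_true, if_false]
theorem va_16063 : va 16063 = -1/5720 := by unfold va; norm_num only [if_true, if_false]
theorem va_16108 : va 16108 = -23/45760 := by unfold va; norm_num only [if_true, if_false]
theorem va_16000 : va 16000 = 1/3520 := by unfold va; norm_num only [if_true, if_false]
theorem va_24036 : va 24036 = 1/137280 := by unfold va; norm_num only [if_true, if_false]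
theorem va_36360 : va 36360 = 1/1716 := by unfold va; norm_num only [if_true, if_false]
theorem va_36072 : va 36072 = 1/17160 := by unfold va; norm_num only [if_true, if_false]
theorem va_36036 : va 36036 = -1/137280 := by unfold va; norm_num only [if_true, if_false]

theorem va_A {k : ℕ} (hk : k ∈ [3510, 693, 351, 4180, 8126, 12063, 16063, 16108, 16000, 24036, 36360, 36072, 36036]) : rowA (fun k => ((va k : ℚ) : ℂ)) k = (414) * ((va k : ℚ) : ℂ) := by
  simp only [List.mem_cons, List.not_mem_nil, or_false] at hk
  rcases hk with rfl | rfl | rfl | rfl | rfl | rfl | rfl | rfl | rfl | rfl | rfl | rfl | rfl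
  · rw [rowA_3510]; simp only [va_3510, va_693]; norm_num
  · rw [rowA_693]; simp only [va_3510, va_693, va_351, va_4180, va_8126]; norm_num
  · rw [rowA_351]; simp only [va_693, va_351, va_8126, va_16063]; norm_num
  · rw [rowA_4180]; simp only [va_693, va_4180, va_8126, va_12063]; norm_num
  · rw [rowA_8126]; simp only [va_693, va_351, va_4180, va_8126, va_12063, va_16063, va_16108, va_24036]; norm_num
  · rw [rowA_12063]; simp only [va_4180, va_8126, va_12063, va_24036, va_36360, va_36072, va_36036]; norm_num
  · rw [rowA_16063]; simp only [va_351, va_8126, va_16063, va_16108, va_16000, va_24036]; norm_num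
  · rw [rowA_16108]; simp only [va_8126, va_16063, va_16108, va_24036]; norm_num
  · rw [rowA_16000]; simp only [va_16063, va_16000, va_24036]; norm_num
  · rw [rowA_24036]; simp only [va_8126, va_12063, va_16063, va_16108, va_16000, va_24036, va_36072, va_36036]; norm_num
  · rw [rowA_36360]; simp only [va_12063, va_36360, va_36072]; norm_num
  · rw [rowA_36072]; simp only [va_12063, va_24036, va_36360, va_36072, va_36036]; norm_num
  · rw [rowA_36036]; simp only [va_12063, va_24036, va_36072, va_36036]; norm_num

theorem va_lin {β : ℕ → ℂ} (hA : ∀ k ∈ [3510, 693, 351, 4180, 8126, 12063, 16063, 16108, 16000, 24036, 36360, 36072, 36036], rowA β k = (414) * β k)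
    {k : ℕ} (hk : k ∈ [3510, 693, 351, 4180, 8126, 12063, 16063, 16108, 16000, 24036, 36360, 36072, 36036]) : β k = β 3510 * ((va k : ℚ) : ℂ) := by
  have hA3510 := hA 3510 (by simp)
  rw [rowA_3510] at hA3510
  have hA693 := hA 693 (by simp)
  rw [rowA_693] at hA693
  have hA351 := hA 351 (by simp)
  rw [rowA_351] at hA351
  have hA4180 := hA 4180 (by simp)
  rw [rowA_4180] at hA4180
  have hA8126 := hA 8126 (by simp)
  rw [rowA_8126] at hA8126
  have hA12063 := hA 12063 (by simp)
  rw [rowA_12063] at hA12063
  have hA16063 := hA 16063 (by simp)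
  rw [rowA_16063] at hA16063
  have hA16108 := hA 16108 (by simp)
  rw [rowA_16108] at hA16108
  have hA16000 := hA 16000 (by simp)
  rw [rowA_16000] at hA16000
  have hA24036 := hA 24036 (by simp)
  rw [rowA_24036] at hA24036
  have hA36360 := hA 36360 (by simp)
  rw [rowA_36360] at hA36360
  have hA36072 := hA 36072 (by simp)
  rw [rowA_36072] at hA36072
  have hA36036 := hA 36036 (by simp)
  rw [rowA_36036] at hA36036
  simp only [List.mem_cons, List.not_mem_nil, or_false] at hk
  rcases hk with rfl | rfl | rfl | rfl | rfl | rfl | rfl | rfl | rfl | rfl | rfl | rfl | rfl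
  · rw [va_3510]; norm_num
  · rw [va_693]; push_cast; linear_combination (1/7020) * hA3510
  · rw [va_351]; push_cast; linear_combination (-8565817/477154022400) * hA3510 + (-1211951/26508556800) * hA693 + (559619/1355551200) * hA351 + (-503867/535526400) * hA4180 + (-69823/30123360) * hA8126 + (24167/5578400) * hA12063 + (-4537/4183800) * hA16063 + (405769/169443900) * hA16108 + (-1781/627570) * hA16000 + (3887/697300) * hA24036 + (-169/11156800) * hA36360 + (-1183/223136) * hA36072
  · rw [va_4180]; push_cast; linear_combination (10123891/981334346850) * hA3510 + (4225646/4193736525) * hA693 + (-3553904/3431238975) * hA351 + (15059/28240650) * hA4180 + (523312/76249755) * hA8126 + (-359216/42360975) * hA12063 + (-24512/42360975) * hA16063 + (-26496512/3431238975) * hA16108 + (255616/25416585) * hA16000 + (-462208/42360975) * hA24036 + (1256/42360975) * hA36360 + (17584/1694439) * hA36072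
  · rw [va_8126]; push_cast; linear_combination (13945583/11165404124160) * hA3510 + (7294093/47715402240) * hA693 + (-385381/2439992160) * hA351 + (52031/64263168) * hA4180 + (170509/271110240) * hA8126 + (-67639/30123360) * hA12063 + (9239/7530840) * hA16063 + (-150773/304999020) * hA16108 + (205/564813) * hA16000 + (-10879/3765420) * hA24036 + (473/60246720) * hA36360 + (16555/6024672) * hA36072
  · rw [va_12063]; push_cast; linear_combination (-17518609/31402699099200) * hA3510 + (-7532999/134199568800) * hA693 + (3187453/54899823600) * hA351 + (-123431/903700800) * hA4180 + (-242897/1219996080) * hA8126 + (609037/677775600) * hA12063 + (-93539/169443900) * hA16063 + (443359/3431238975) * hA16108 + (-2209/50833170) * hA16000 + (97957/84721950) * hA24036 + (-4259/1355551200) * hA36360 + (-29813/27111024) * hA36072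
  · rw [va_16063]; push_cast; linear_combination (-461431/1256107963968) * hA3510 + (610403/26839913760) * hA693 + (-135197/5489982360) * hA351 + (131509/180740160) * hA4180 + (1185989/609998040) * hA8126 + (-119119/33888780) * hA12063 + (13657/16944390) * hA16063 + (-2780603/1372495590) * hA16108 + (24661/10166634) * hA16000 + (-38318/8472195) * hA24036 + (833/67777560) * hA36360 + (29155/6777756) * hA36072
  · rw [va_16108]; push_cast; linear_combination (-1284311/689222476800) * hA3510 + (-791821/2945395200) * hA693 + (9157/33470400) * hA351 + (-828793/535526400) * hA4180 + (-9929/6694080) * hA8126 + (38467/8367600) * hA12063 + (5249/1394600) * hA16063 + (432841/75308400) * hA16108 + (-28121/2510280) * hA16000 + (6187/1045950) * hA24036 + (-269/16735200) * hA36360 + (-1883/334704) * hA36072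
  · rw [va_16000]; push_cast; linear_combination (4843589/6441579302400) * hA3510 + (9736207/357865516800) * hA693 + (-2064127/73199764800) * hA351 + (-913367/2409868800) * hA4180 + (-2411617/1626661440) * hA8126 + (1057771/451850400) * hA12063 + (513877/451850400) * hA16063 + (-6138587/9149970600) * hA16108 + (-126523/135555120) * hA16000 + (170131/56481300) * hA24036 + (-7397/903700800) * hA36360 + (-51779/18074016) * hA36072
  · rw [va_24036]; push_cast; linear_combination (616199/83740530931200) * hA3510 + (-1516631/357865516800) * hA693 + (331181/73199764800) * hA351 + (-517027/7229606400) * hA4180 + (-271657/1626661440) * hA8126 + (144287/451850400) * hA12063 + (-17969/112962600) * hA16063 + (5263937/18299941200) * hA16108 + (-97/1255140) * hA16000 + (23207/56481300) * hA24036 + (-1009/903700800) * hA36360 + (-7063/18074016) * hA36072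
  · rw [va_36360]; push_cast; linear_combination (-406771/330554727360) * hA3510 + (-1542881/1412627040) * hA693 + (158083/144473220) * hA351 + (-113239/9512640) * hA4180 + (-70607/3210516) * hA8126 + (40841/891810) * hA12063 + (20971/445905) * hA16063 + (1165696/36118305) * hA16108 + (-13898/267543) * hA16000 + (-14146/445905) * hA24036 + (-8309/3567240) * hA36360 + (-3605/713448) * hA36072
  · rw [va_36072]; push_cast; linear_combination (-39799/2326125859200) * hA3510 + (-649709/9940708800) * hA693 + (7373/112962600) * hA351 + (-1385657/1807401600) * hA4180 + (-32137/22592520) * hA8126 + (41044/14120325) * hA12063 + (29687/9413550) * hA16063 + (267652/127082925) * hA16108 + (-28879/8472195) * hA16000 + (-31303/14120325) * hA24036 + (1361/225925200) * hA36360 + (-1865/9037008) * hA36072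
  · rw [va_36036]; push_cast; linear_combination (17366509/879275574777600) * hA3510 + (58097069/3757587926400) * hA693 + (-23951443/1537195060800) * hA351 + (613753/3614803200) * hA4180 + (11001623/34159890240) * hA8126 + (-1586219/2372214600) * hA12063 + (-1293353/2372214600) * hA16063 + (-26449873/54899823600) * hA16108 + (479987/711664380) * hA16000 + (333379/1186107300) * hA24036 + (11939/37955433600) * hA36360 + (86635/216888192) * hA36072

/-- the degree 79452373 -/
theorem exists_a : ∃ χ : IrrCharacter Fi24, charDegree (χ : Fi24 → ℂ) = 79452373 := by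
  have : Finite Fi24 := Cfsg.Agent.R08.FiTwentyFour.finite_Fi24
  set w : ℕ → ℂ := fun k => ((va k : ℚ) : ℂ) with hw
  have hv := orbs.isFn w
  have hab := (chkCl_spec cl_02)
  refine Ctx.exists_deg (X := X) (P := False) (τ := (414)) (ω := 0) (v := fn X X.cl w) hv ?_ ?_ (fun h => h.elim) ?_
    (n2 := 9720970056) (s2 := 17496/143) ?_ sum_one ?_
  · show fn X X.cl w 0 136 = 1
    rw [Ctx.fn_of hab.1, hab.2, hw]
    simp only [va_3510]
    norm_num
  · intro c d h
    rw [A1_val (orbs.kInv w) (fun x y h => if_pos h) h, va_A (cl_mem h), Ctx.fn_of h]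
  · intro ψ hψ hK h1 _ c d h
    obtain ⟨β, hβ⟩ := orbs.exists_beta hψ hK
    rw [hβ c d h, va_lin (fun k hk => eqA hK hβ h1 hk) (cl_mem h), Ctx.fn_of h]
    show _ = ψ 0 136 * _
    rw [hβ _ _ hab.1, hab.2]
  · have e : ∀ x y, fn X X.cl w x y * conj (fn X X.cl w x y) = fn X X.cl (fun k => ((va k ^ 2 : ℚ) : ℂ)) x y := by
      intro x y
      by_cases h : X.com x y
      · rw [Ctx.fn_of h, Ctx.fn_of h, hw]
        simp only [map_ratCast]
        push_cast
        ring
      · have e1 : fn X X.cl w x y = 0 := if_neg h
        have e2 : fn X X.cl (fun k => ((va k ^ 2 : ℚ) : ℂ)) x y = 0 := if_neg h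
        rw [e1, e2, zero_mul]
    simp only [e]
    rw [sum_fn]
    simp only [va_3510, va_693, va_351, va_4180, va_8126, va_12063, va_16063, va_16108, va_16000, va_24036, va_36360, va_36072, va_36036]
    norm_num
  · norm_num

/-! ### The degree 159402880 -/

/-- the eigenfunction -/
def vb (k : ℕ) : ℚ :=
  if k = 3510 then 1 else
  if k = 693 then 17/390 else
  if k = 351 then -7/1280 else
  if k = 4180 then -1/429 else
  if k = 8126 then -35/109824 else
  if k = 12063 then 3/22880 else
  if k = 16063 then 3/22880 else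
  if k = 16108 then 43/183040 else
  if k = 16000 then -1/7040 else
  if k = 24036 then -7/1098240 else
  if k = 36360 then -1/3432 else
  if k = 36072 then -1/34320 else
  if k = 36036 then 1/274560 else
  0
theorem vb_3510 : vb 3510 = 1 := by unfold vb; norm_num only [if_true, if_false]
theorem vb_693 : vb 693 = 17/390 := by unfold vb; norm_num only [if_true, if_false]
theorem vb_351 : vb 351 = -7/1280 := by unfold vb; norm_num only [if_true, if_false]
theorem vb_4180 : vb 4180 = -1/429 := by unfold vb; norm_num only [if_true, if_false]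
theorem vb_8126 : vb 8126 = -35/109824 := by unfold vb; norm_num only [if_true, if_false]
theorem vb_12063 : vb 12063 = 3/22880 := by unfold vb; norm_num only [if_true, if_false]
theorem vb_16063 : vb 16063 = 3/22880 := by unfold vb; norm_num only [if_true, if_false]
theorem vb_16108 : vb 16108 = 43/183040 := by unfold vb; norm_num only [if_true, if_false]
theorem vb_16000 : vb 16000 = -1/7040 := by unfold vb; norm_num only [if_true, if_false]
theorem vb_24036 : vb 24036 = -7/1098240 := by unfold vb; norm_num only [if_true, if_false]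
theorem vb_36360 : vb 36360 = -1/3432 := by unfold vb; norm_num only [if_true, if_false]
theorem vb_36072 : vb 36072 = -1/34320 := by unfold vb; norm_num only [if_true, if_false]
theorem vb_36036 : vb 36036 = 1/274560 := by unfold vb; norm_num only [if_true, if_false]

theorem vb_A {k : ℕ} (hk : k ∈ [3510, 693, 351, 4180, 8126, 12063, 16063, 16108, 16000, 24036, 36360, 36072, 36036]) : rowA (fun k => ((vb k : ℚ) : ℂ)) k = (306) * ((vb k : ℚ) : ℂ) := by
  simp only [List.mem_cons, List.not_mem_nil, or_false] at hk
  rcases hk with rfl | rfl | rfl | rfl | rfl | rfl | rfl | rfl | rfl | rfl | rfl | rfl | rfl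
  · rw [rowA_3510]; simp only [vb_3510, vb_693]; norm_num
  · rw [rowA_693]; simp only [vb_3510, vb_693, vb_351, vb_4180, vb_8126]; norm_num
  · rw [rowA_351]; simp only [vb_693, vb_351, vb_8126, vb_16063]; norm_num
  · rw [rowA_4180]; simp only [vb_693, vb_4180, vb_8126, vb_12063]; norm_num
  · rw [rowA_8126]; simp only [vb_693, vb_351, vb_4180, vb_8126, vb_12063, vb_16063, vb_16108, vb_24036]; norm_num
  · rw [rowA_12063]; simp only [vb_4180, vb_8126, vb_12063, vb_24036, vb_36360, vb_36072, vb_36036]; norm_num
  · rw [rowA_16063]; simp only [vb_351, vb_8126, vb_16063, vb_16108, vb_16000, vb_24036]; norm_num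
  · rw [rowA_16108]; simp only [vb_8126, vb_16063, vb_16108, vb_24036]; norm_num
  · rw [rowA_16000]; simp only [vb_16063, vb_16000, vb_24036]; norm_num
  · rw [rowA_24036]; simp only [vb_8126, vb_12063, vb_16063, vb_16108, vb_16000, vb_24036, vb_36072, vb_36036]; norm_num
  · rw [rowA_36360]; simp only [vb_12063, vb_36360, vb_36072]; norm_num
  · rw [rowA_36072]; simp only [vb_12063, vb_24036, vb_36360, vb_36072, vb_36036]; norm_num
  · rw [rowA_36036]; simp only [vb_12063, vb_24036, vb_36072, vb_36036]; norm_num

theorem vb_lin {β : ℕ → ℂ} (hA : ∀ k ∈ [3510, 693, 351, 4180, 8126, 12063, 16063, 16108, 16000, 24036, 36360, 36072, 36036], rowA β k = (306) * β k)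
    {k : ℕ} (hk : k ∈ [3510, 693, 351, 4180, 8126, 12063, 16063, 16108, 16000, 24036, 36360, 36072, 36036]) : β k = β 3510 * ((vb k : ℚ) : ℂ) := by
  have hA3510 := hA 3510 (by simp)
  rw [rowA_3510] at hA3510
  have hA693 := hA 693 (by simp)
  rw [rowA_693] at hA693
  have hA351 := hA 351 (by simp)
  rw [rowA_351] at hA351
  have hA4180 := hA 4180 (by simp)
  rw [rowA_4180] at hA4180
  have hA8126 := hA 8126 (by simp)
  rw [rowA_8126] at hA8126
  have hA12063 := hA 12063 (by simp)
  rw [rowA_12063] at hA12063
  have hA16063 := hA 16063 (by simp)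
  rw [rowA_16063] at hA16063
  have hA16108 := hA 16108 (by simp)
  rw [rowA_16108] at hA16108
  have hA16000 := hA 16000 (by simp)
  rw [rowA_16000] at hA16000
  have hA24036 := hA 24036 (by simp)
  rw [rowA_24036] at hA24036
  have hA36360 := hA 36360 (by simp)
  rw [rowA_36360] at hA36360
  have hA36072 := hA 36072 (by simp)
  rw [rowA_36072] at hA36072
  have hA36036 := hA 36036 (by simp)
  rw [rowA_36036] at hA36036
  simp only [List.mem_cons, List.not_mem_nil, or_false] at hk
  rcases hk with rfl | rfl | rfl | rfl | rfl | rfl | rfl | rfl | rfl | rfl | rfl | rfl | rfl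
  · rw [vb_3510]; norm_num
  · rw [vb_693]; push_cast; linear_combination (1/7020) * hA3510
  · rw [vb_351]; push_cast; linear_combination (-78759653/4499484318720) * hA3510 + (330785/2940839424) * hA693 + (1687915/7030444248) * hA351 + (-8363719/11109837824) * hA4180 + (-1579591/781160472) * hA8126 + (299637/86795608) * hA12063 + (6773/43397804) * hA16063 + (1148693/878805531) * hA16108 + (-53170/32548353) * hA16000 + (1521/638203) * hA24036 + (-1521/173591216) * hA36360 + (-266175/86795608) * hA36072
  · rw [vb_4180]; push_cast; linear_combination (-322619941/61075226793438) * hA3510 + (10971542/15353249571) * hA693 + (-150740992/213549744033) * hA351 + (-77171/585870354) * hA4180 + (192337408/23727749337) * hA8126 + (-21320128/2636416593) * hA12063 + (-8644096/2636416593) * hA16063 + (-1162158592/213549744033) * hA16108 + (58193920/7909249779) * hA16000 + (-865792/155083329) * hA24036 + (54112/2636416593) * hA36360 + (18939200/2636416593) * hA36072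
  · rw [vb_8126]; push_cast; linear_combination (-2860425985/3474501790915584) * hA3510 + (58321925/873429308928) * hA693 + (-12599113/189821994696) * hA351 + (1539503/1960559616) * hA4180 + (575149/21091332744) * hA8126 + (-3426421/2343481416) * hA12063 + (762577/1171740708) * hA16063 + (763063/23727749337) * hA16108 + (-155650/878805531) * hA16000 + (-17393/17231481) * hA24036 + (17393/4686962832) * hA36360 + (3043775/2343481416) * hA36072
  · rw [vb_12063]; push_cast; linear_combination (5944174531/19544072573900160) * hA3510 + (-37389619/982607972544) * hA693 + (16132105/427099488066) * hA351 + (-4890809/37495702656) * hA4180 + (-5083057/47455498674) * hA8126 + (7852223/10545666372) * hA12063 + (-661279/2636416593) * hA16063 + (10566794/213549744033) * hA16108 + (-59360/7909249779) * hA16000 + (79718/155083329) * hA24036 + (-39859/21091332744) * hA36360 + (-6975325/10545666372) * hA36072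
  · rw [vb_16063]; push_cast; linear_combination (1412493091/19544072573900160) * hA3510 + (-107107795/982607972544) * hA693 + (91485047/854198976132) * hA351 + (22221815/37495702656) * hA4180 + (173042161/94910997348) * hA8126 + (-7791547/2636416593) * hA12063 + (-1124495/5272833186) * hA16063 + (-252856996/213549744033) * hA16108 + (11824420/7909249779) * hA16000 + (-316408/155083329) * hA24036 + (39551/5272833186) * hA36360 + (6921425/2636416593) * hA36072
  · rw [vb_16108]; push_cast; linear_combination (2022835091/1930278772730880) * hA3510 + (8321965/97047700992) * hA693 + (-1847267/21091332744) * hA351 + (-19826107/11109837824) * hA4180 + (-6439519/2343481416) * hA8126 + (1583683/260386824) * hA12063 + (1451641/260386824) * hA16063 + (37403543/10545666372) * hA16108 + (-908315/97645059) * hA16000 + (8039/1914609) * hA24036 + (-8039/520773648) * hA36360 + (-1406825/260386824) * hA36072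
  · rw [vb_16000]; push_cast; linear_combination (-32930899/2004520263989760) * hA3510 + (179513815/1310143963392) * hA693 + (-77724049/569465984088) * hA351 + (-107818529/149982810624) * hA4180 + (-143365235/63273998232) * hA8126 + (12797317/3515222124) * hA12063 + (5111249/1757611062) * hA16063 + (-11580023/71183248011) * hA16108 + (-26605333/10545666372) * hA16000 + (129922/51694443) * hA24036 + (-64961/7030444248) * hA36360 + (-11368175/3515222124) * hA36072
  · rw [vb_24036]; push_cast; linear_combination (-16096381/2043824582891520) * hA3510 + (6924365/1746858617856) * hA693 + (-178601/47455498674) * hA351 + (-42099827/1799793727488) * hA4180 + (-1437031/21091332744) * hA8126 + (1584865/14060888496) * hA12063 + (-2508437/14060888496) * hA16063 + (15136331/94910997348) * hA16108 + (891535/5272833186) * hA16000 + (8045/103388886) * hA24036 + (-8045/28121776992) * hA36360 + (-1407875/14060888496) * hA36072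
  · rw [vb_36360]; push_cast; linear_combination (4375255741/977203628695008) * hA3510 + (408135055/245651993136) * hA693 + (-20981350/12561749649) * hA351 + (-134638595/9373925664) * hA4180 + (-45160010/1395749961) * hA8126 + (154879390/2636416593) * hA12063 + (9227060/155083329) * hA16063 + (317324840/12561749649) * hA16108 + (-20249600/465249987) * hA16000 + (-7316840/155083329) * hA24036 + (-8158438/2636416593) * hA36360 + (-14944825/5272833186) * hA36072
  · rw [vb_36072]; push_cast; linear_combination (595152367/3257345428983360) * hA3510 + (13927985/163767995424) * hA693 + (-6082145/71183248011) * hA351 + (-12799703/18747851328) * hA4180 + (-12332935/7909249779) * hA8126 + (2432788/878805531) * hA12063 + (2564830/878805531) * hA16063 + (86937340/71183248011) * hA16108 + (-5571200/2636416593) * hA16000 + (-1500/638203) * hA24036 + (375/43397804) * hA36360 + (-218201/3515222124) * hA36072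
  · rw [vb_36036]; push_cast; linear_combination (-1542657839/32190237180541440) * hA3510 + (-2518360237/137565116156160) * hA693 + (627013753/34167959045280) * hA351 + (23886451/149982810624) * hA4180 + (274247815/759287978784) * hA8126 + (-485377397/738196646040) * hA12063 + (-429919757/738196646040) * hA16063 + (-2639857889/8541989761320) * hA16108 + (46251223/110729496906) * hA16000 + (2950219/6203333160) * hA24036 + (-855013/2952786584160) * hA36360 + (23998223/84365330976) * hA36072

/-- the degree 159402880 -/
theorem exists_b : ∃ χ : IrrCharacter Fi24, charDegree (χ : Fi24 → ℂ) = 159402880 := by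
  have : Finite Fi24 := Cfsg.Agent.R08.FiTwentyFour.finite_Fi24
  set w : ℕ → ℂ := fun k => ((vb k : ℚ) : ℂ) with hw
  have hv := orbs.isFn w
  have hab := (chkCl_spec cl_02)
  refine Ctx.exists_deg (X := X) (P := False) (τ := (306)) (ω := 0) (v := fn X X.cl w) hv ?_ ?_ (fun h => h.elim) ?_
    (n2 := 9720970056) (s2 := 63423/1040) ?_ sum_one ?_
  · show fn X X.cl w 0 136 = 1
    rw [Ctx.fn_of hab.1, hab.2, hw]
    simp only [vb_3510]
    norm_num
  · intro c d h
    rw [A1_val (orbs.kInv w) (fun x y h => if_pos h) h, vb_A (cl_mem h), Ctx.fn_of h]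
  · intro ψ hψ hK h1 _ c d h
    obtain ⟨β, hβ⟩ := orbs.exists_beta hψ hK
    rw [hβ c d h, vb_lin (fun k hk => eqA hK hβ h1 hk) (cl_mem h), Ctx.fn_of h]
    show _ = ψ 0 136 * _
    rw [hβ _ _ hab.1, hab.2]
  · have e : ∀ x y, fn X X.cl w x y * conj (fn X X.cl w x y) = fn X X.cl (fun k => ((vb k ^ 2 : ℚ) : ℂ)) x y := by
      intro x y
      by_cases h : X.com x y
      · rw [Ctx.fn_of h, Ctx.fn_of h, hw]
        simp only [map_ratCast]
        push_cast
        ring
      · have e1 : fn X X.cl w x y = 0 := if_neg h
        have e2 : fn X X.cl (fun k => ((vb k ^ 2 : ℚ) : ℂ)) x y = 0 := if_neg h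
        rw [e1, e2, zero_mul]
    simp only [e]
    rw [sum_fn]
    simp only [vb_3510, vb_693, vb_351, vb_4180, vb_8126, vb_12063, vb_16063, vb_16108, vb_16000, vb_24036, vb_36360, vb_36072, vb_36036]
    norm_num
  · norm_num

/-! ### The degree 112168056 -/

/-- the eigenfunction -/
def vc (k : ℕ) : ℚ :=
  if k = 3510 then 1 else
  if k = 693 then -1/390 else
  if k = 351 then 1/3520 else
  if k = 4180 then -47/15015 else
  if k = 8126 then 107/137280 else
  if k = 12063 then -1/11440 else
  if k = 16063 then -1/11440 else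
  if k = 16108 then 29/640640 else
  if k = 16000 then 1/3520 else
  if k = 24036 then -7/274560 else
  if k = 36360 then 4/429 else
  if k = 36072 then -1/60060 else
  if k = 36036 then 19/1921920 else
  0
theorem vc_3510 : vc 3510 = 1 := by unfold vc; norm_num only [if_true, if_false]
theorem vc_693 : vc 693 = -1/390 := by unfold vc; norm_num only [if_true, if_false]
theorem vc_351 : vc 351 = 1/3520 := by unfold vc; norm_num only [if_true, if_false]
theorem vc_4180 : vc 4180 = -47/15015 := by unfold vc; norm_num only [if_true, if_false]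
theorem vc_8126 : vc 8126 = 107/137280 := by unfold vc; norm_num only [if_true, if_false]
theorem vc_12063 : vc 12063 = -1/11440 := by unfold vc; norm_num only [if_true, if_false]
theorem vc_16063 : vc 16063 = -1/11440 := by unfold vc; norm_num only [if_true, if_false]
theorem vc_16108 : vc 16108 = 29/640640 := by unfold vc; norm_num only [if_true, if_false]
theorem vc_16000 : vc 16000 = 1/3520 := by unfold vc; norm_num only [if_true, if_false]
theorem vc_24036 : vc 24036 = -7/274560 := by unfold vc; norm_num only [if_true, if_false]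
theorem vc_36360 : vc 36360 = 4/429 := by unfold vc; norm_num only [if_true, if_false]
theorem vc_36072 : vc 36072 = -1/60060 := by unfold vc; norm_num only [if_true, if_false]
theorem vc_36036 : vc 36036 = 19/1921920 := by unfold vc; norm_num only [if_true, if_false]

theorem vc_A {k : ℕ} (hk : k ∈ [3510, 693, 351, 4180, 8126, 12063, 16063, 16108, 16000, 24036, 36360, 36072, 36036]) : rowA (fun k => ((vc k : ℚ) : ℂ)) k = (-18) * ((vc k : ℚ) : ℂ) := by
  simp only [List.mem_cons, List.not_mem_nil, or_false] at hk
  rcases hk with rfl | rfl | rfl | rfl | rfl | rfl | rfl | rfl | rfl | rfl | rfl | rfl | rfl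
  · rw [rowA_3510]; simp only [vc_3510, vc_693]; norm_num
  · rw [rowA_693]; simp only [vc_3510, vc_693, vc_351, vc_4180, vc_8126]; norm_num
  · rw [rowA_351]; simp only [vc_693, vc_351, vc_8126, vc_16063]; norm_num
  · rw [rowA_4180]; simp only [vc_693, vc_4180, vc_8126, vc_12063]; norm_num
  · rw [rowA_8126]; simp only [vc_693, vc_351, vc_4180, vc_8126, vc_12063, vc_16063, vc_16108, vc_24036]; norm_num
  · rw [rowA_12063]; simp only [vc_4180, vc_8126, vc_12063, vc_24036, vc_36360, vc_36072, vc_36036]; norm_num
  · rw [rowA_16063]; simp only [vc_351, vc_8126, vc_16063, vc_16108, vc_16000, vc_24036]; norm_num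
  · rw [rowA_16108]; simp only [vc_8126, vc_16063, vc_16108, vc_24036]; norm_num
  · rw [rowA_16000]; simp only [vc_16063, vc_16000, vc_24036]; norm_num
  · rw [rowA_24036]; simp only [vc_8126, vc_12063, vc_16063, vc_16108, vc_16000, vc_24036, vc_36072, vc_36036]; norm_num
  · rw [rowA_36360]; simp only [vc_12063, vc_36360, vc_36072]; norm_num
  · rw [rowA_36072]; simp only [vc_12063, vc_24036, vc_36360, vc_36072, vc_36036]; norm_num
  · rw [rowA_36036]; simp only [vc_12063, vc_24036, vc_36072, vc_36036]; norm_num

theorem vc_lin {β : ℕ → ℂ} (hA : ∀ k ∈ [3510, 693, 351, 4180, 8126, 12063, 16063, 16108, 16000, 24036, 36360, 36072, 36036], rowA β k = (-18) * β k)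
    (hC3510 : 3512 * β 3510 + 56320 * β 351 + 247104 * β 36360 = 5832 * β 3510)
    (hC4180 : 6840 * β 4180 + 9216 * β 8126 + 46080 * β 12063 + 46080 * β 16063 + 163840 * β 36036 + 34560 * β 36072 + 320 * β 36360 = 5832 * β 4180)
    (hC16108 : 10312 * β 16108 + 2 * β 351 + 486 * β 8126 + 122472 * β 24036 + 5832 * β 16063 + 4320 * β 16000 + 5832 * β 12063 + 91800 * β 36036 + 65610 * β 36072 + 270 * β 36360 = 5832 * β 16108)
    (hC36360 : 6664 * β 36360 + 11520 * β 24036 + 151200 * β 36072 + 89600 * β 36036 + 2 * β 3510 + 3150 * β 4180 + 44800 * β 16108 = 5832 * β 36360)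
    {k : ℕ} (hk : k ∈ [3510, 693, 351, 4180, 8126, 12063, 16063, 16108, 16000, 24036, 36360, 36072, 36036]) : β k = β 3510 * ((vc k : ℚ) : ℂ) := by
  have hA3510 := hA 3510 (by simp)
  rw [rowA_3510] at hA3510
  have hA693 := hA 693 (by simp)
  rw [rowA_693] at hA693
  have hA351 := hA 351 (by simp)
  rw [rowA_351] at hA351
  have hA4180 := hA 4180 (by simp)
  rw [rowA_4180] at hA4180
  have hA8126 := hA 8126 (by simp)
  rw [rowA_8126] at hA8126
  have hA12063 := hA 12063 (by simp)
  rw [rowA_12063] at hA12063
  have hA16063 := hA 16063 (by simp)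
  rw [rowA_16063] at hA16063
  have hA16108 := hA 16108 (by simp)
  rw [rowA_16108] at hA16108
  have hA16000 := hA 16000 (by simp)
  rw [rowA_16000] at hA16000
  have hA24036 := hA 24036 (by simp)
  rw [rowA_24036] at hA24036
  have hA36360 := hA 36360 (by simp)
  rw [rowA_36360] at hA36360
  have hA36072 := hA 36072 (by simp)
  rw [rowA_36072] at hA36072
  have hA36036 := hA 36036 (by simp)
  rw [rowA_36036] at hA36036
  simp only [List.mem_cons, List.not_mem_nil, or_false] at hk
  rcases hk with rfl | rfl | rfl | rfl | rfl | rfl | rfl | rfl | rfl | rfl | rfl | rfl | rfl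
  · rw [vc_3510]; norm_num
  · rw [vc_693]; push_cast; linear_combination (1/7020) * hA3510
  · rw [vc_351]; push_cast; linear_combination (-7/337920) * hA3510 + (1/11264) * hA693 + (1/4224) * hA351 + (-9/22528) * hA4180 + (1/1408) * hA8126 + (-1/704) * hA16063 + (1/1056) * hA16000
  · rw [vc_4180]; push_cast; linear_combination (727003/218918700) * hA3510 + (-6550717/109459350) * hA693 + (2913692/54729675) * hA351 + (3369643/24324300) * hA4180 + (3132308/54729675) * hA8126 + (-3968/14175) * hA12063 + (-66776/225225) * hA16063 + (497872/3648645) * hA16000 + (2176/14175) * hA24036 + (-151/109459350) * hC3510 + (1/1890) * hC4180 + (128/76545) * hC16108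
  · rw [vc_8126]; push_cast; linear_combination (-1481231/1779148800) * hA3510 + (13338359/889574400) * hA693 + (-1483171/111196800) * hA351 + (-6660311/197683200) * hA4180 + (-1645129/111196800) * hA8126 + (31/450) * hA12063 + (17019/228800) * hA16063 + (-63989/1853280) * hA16000 + (-17/450) * hA24036 + (151/444787200) * hC3510 + (-1/7680) * hC4180 + (-1/2430) * hC16108
  · rw [vc_12063]; push_cast; linear_combination (780463/8006169600) * hA3510 + (-638597/363916800) * hA693 + (781073/500385600) * hA351 + (3404743/889574400) * hA4180 + (941027/500385600) * hA8126 + (-31/4050) * hA12063 + (-2999/343200) * hA16063 + (34627/8339760) * hA16000 + (17/4050) * hA24036 + (-151/4003084800) * hC3510 + (1/69120) * hC4180 + (1/21870) * hC16108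
  · rw [vc_16063]; push_cast; linear_combination (48793/500385600) * hA3510 + (-219581/125096400) * hA693 + (48803/31274100) * hA351 + (230473/55598400) * hA4180 + (7268/7818525) * hA8126 + (-31/4050) * hA12063 + (-5279/772200) * hA16063 + (6013/2084940) * hA16000 + (17/4050) * hA24036 + (-151/4003084800) * hC3510 + (1/69120) * hC4180 + (1/21870) * hC16108
  · rw [vc_16108]; push_cast; linear_combination (-391409/461260800) * hA3510 + (7042027/461260800) * hA693 + (-195497/14414400) * hA351 + (-2039579/51251200) * hA4180 + (47111/7207200) * hA8126 + (2481/44800) * hA12063 + (20627/457600) * hA16063 + (-12347/960960) * hA16000 + (-249/5600) * hA24036 + (11/670924800) * hC3510 + (171/1146880) * hC4180 + (-1/2520) * hC16108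
  · rw [vc_16000]; push_cast; linear_combination (-1067/1296000) * hA3510 + (3379691/228096000) * hA693 + (-187727/14256000) * hA351 + (-458891/12672000) * hA4180 + (-45323/14256000) * hA8126 + (1911/32000) * hA12063 + (85687/1584000) * hA16063 + (-8641/475200) * hA16000 + (-169/4000) * hA24036 + (443/3649536000) * hC3510 + (143/2457600) * hC4180 + (-13/32400) * hC16108
  · rw [vc_24036]; push_cast; linear_combination (373739/4003084800) * hA3510 + (-26903923/16012339200) * hA693 + (1494331/1000771200) * hA351 + (3669073/889574400) * hA4180 + (291619/1000771200) * hA8126 + (-3473/518400) * hA12063 + (-25043/4118400) * hA16063 + (71683/33359040) * hA16000 + (317/64800) * hA24036 + (-2779/256197427200) * hC3510 + (-41/4423680) * hC4180 + (1/21870) * hC16108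
  · rw [vc_36360]; push_cast; linear_combination (7/1482624) * hA3510 + (-5/247104) * hA693 + (-5/92664) * hA351 + (5/54912) * hA4180 + (-5/30888) * hA8126 + (5/15444) * hA16063 + (-5/23166) * hA16000 + (1/247104) * hC3510
  · rw [vc_36072]; push_cast; linear_combination (-832417/17513496000) * hA3510 + (7490233/8756748000) * hA693 + (-1664329/2189187000) * hA351 + (-3805357/1945944000) * hA4180 + (-1511971/2189187000) * hA8126 + (529/141750) * hA12063 + (52093/13513500) * hA16063 + (-55901/36486450) * hA16000 + (-214/70875) * hA24036 + (-127/17513496000) * hC3510 + (-1/604800) * hC4180 + (-2/382725) * hC16108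
  · rw [vc_36036]; push_cast; linear_combination (-1147361/62270208000) * hA3510 + (20648653/62270208000) * hA693 + (-286729/972972000) * hA351 + (-5446031/6918912000) * hA4180 + (-319667/1945944000) * hA8126 + (2753/2016000) * hA12063 + (521771/432432000) * hA16063 + (-71693/129729600) * hA16000 + (-137/252000) * hA24036 + (4219/996323328000) * hC3510 + (41/17203200) * hC4180 + (-1/85050) * hC16108

theorem zero_lin {β : ℕ → ℂ} (hA : ∀ k ∈ [3510, 693, 351, 4180, 8126, 12063, 16063, 16108, 16000, 24036, 36360, 36072, 36036], rowA β k = (-18) * β k) (h0_3510 : β 3510 = 0) (h0_4180 : β 4180 = 0)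
    (h0_16108 : β 16108 = 0) (h0_36360 : β 36360 = 0) {k : ℕ} (hk : k ∈ [3510, 693, 351, 4180, 8126, 12063, 16063, 16108, 16000, 24036, 36360, 36072, 36036]) : β k = 0 := by
  have hA3510 := hA 3510 (by simp)
  rw [rowA_3510] at hA3510
  have hA693 := hA 693 (by simp)
  rw [rowA_693] at hA693
  have hA351 := hA 351 (by simp)
  rw [rowA_351] at hA351
  have hA4180 := hA 4180 (by simp)
  rw [rowA_4180] at hA4180
  have hA8126 := hA 8126 (by simp)
  rw [rowA_8126] at hA8126
  have hA12063 := hA 12063 (by simp)
  rw [rowA_12063] at hA12063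
  have hA16063 := hA 16063 (by simp)
  rw [rowA_16063] at hA16063
  have hA16108 := hA 16108 (by simp)
  rw [rowA_16108] at hA16108
  have hA16000 := hA 16000 (by simp)
  rw [rowA_16000] at hA16000
  have hA24036 := hA 24036 (by simp)
  rw [rowA_24036] at hA24036
  have hA36360 := hA 36360 (by simp)
  rw [rowA_36360] at hA36360
  have hA36072 := hA 36072 (by simp)
  rw [rowA_36072] at hA36072
  have hA36036 := hA 36036 (by simp)
  rw [rowA_36036] at hA36036
  simp only [List.mem_cons, List.not_mem_nil, or_false] at hk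
  rcases hk with rfl | rfl | rfl | rfl | rfl | rfl | rfl | rfl | rfl | rfl | rfl | rfl | rfl
  · linear_combination (1) * h0_3510
  · linear_combination (1/7020) * hA3510 + (-1/390) * h0_3510
  · linear_combination (-7/337920) * hA3510 + (1/11264) * hA693 + (1/4224) * hA351 + (-9/22528) * hA4180 + (1/1408) * hA8126 + (-1/704) * hA16063 + (1/1056) * hA16000 + (1/3520) * h0_3510
  · linear_combination (1) * h0_4180
  · linear_combination (-11/718848) * hA3510 + (3/11264) * hA693 + (-1/4224) * hA351 + (9/22528) * hA4180 + (-1/1408) * hA8126 + (1/704) * hA16063 + (-1/1056) * hA16000 + (1/109824) * h0_3510 + (-63/256) * h0_4180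
  · linear_combination (1/149760) * hA3510 + (-1/8448) * hA693 + (1/9504) * hA351 + (1/25344) * hA4180 + (1/3168) * hA8126 + (-1/1584) * hA16063 + (1/2376) * hA16000 + (-1/549120) * h0_3510 + (7/256) * h0_4180
  · linear_combination (1193/177914880) * hA3510 + (-235/1976832) * hA693 + (233/2223936) * hA351 + (157/439296) * hA4180 + (-157/247104) * hA8126 + (157/123552) * hA16063 + (-157/185328) * hA16000 + (-1/549120) * h0_3510 + (7/256) * h0_4180
  · linear_combination (1) * h0_16108
  · linear_combination (2609/182476800) * hA3510 + (-317/1216512) * hA693 + (529/2280960) * hA351 + (2287/1351680) * hA4180 + (-2287/760320) * hA8126 + (-1/380160) * hA16063 + (793/570240) * hA16000 + (49/15206400) * h0_3510 + (-819/10240) * h0_4180 + (91/135) * h0_16108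
  · linear_combination (-1901/711659520) * hA3510 + (1145/23721984) * hA693 + (-127/2965248) * hA351 + (-1379/5271552) * hA4180 + (1379/2965248) * hA8126 + (-235/1482624) * hA16063 + (235/2223936) * hA16000 + (-1/5391360) * h0_3510 + (7/1024) * h0_4180 + (-7/81) * h0_16108
  · linear_combination (1) * h0_36360
  · linear_combination (-73/1965600) * hA3510 + (247/369600) * hA693 + (-247/415800) * hA351 + (-211/138600) * hA4180 + (-71/138600) * hA8126 + (1/350) * hA12063 + (29/9900) * hA16063 + (-23/20790) * hA16000 + (-4/1575) * hA24036 + (1/4804800) * h0_3510 + (-1/320) * h0_4180 + (-1/350) * h0_36360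
  · linear_combination (3469/553512960) * hA3510 + (-52057/461260800) * hA693 + (5783/57657600) * hA351 + (4989/14643200) * hA4180 + (-12043/57657600) * hA8126 + (-1/2800) * hA12063 + (-1303/4118400) * hA16063 + (-47/1729728) * hA16000 + (1/1400) * hA24036 + (1/20966400) * h0_3510 + (-9/5120) * h0_4180 + (1/45) * h0_16108 + (1/2800) * h0_36360

theorem vc_C : let w : ℕ → ℂ := fun k => ((vc k : ℚ) : ℂ)
    ∀ c d, X.com c d → X.CC (fn X X.cl w) c d = 5832 * fn X X.cl w c d := by
  intro w
  have hv := orbs.isFn w
  have hk := orbs.kInv w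
  have hw : ∀ x y, X.com x y → fn X X.cl w x y = w (X.cl x y) := fun x y h => if_pos h
  set ψ : ℕ → ℕ → ℂ := fun c d => X.CC (fn X X.cl w) c d - 5832 * fn X X.cl w c d with hψ
  have hF : IsFn X ψ := by
    refine ⟨fun c d => ?_, fun c d h => ?_⟩
    · show _ - _ = _ - _
      rw [hv.CC.symm, hv.symm]
    · show _ - _ = (0 : ℂ)
      rw [hv.CC.zero c d h, hv.zero c d h]; ring
  have hK : X.KInv ψ := by
    intro g hg c d
    show _ - _ = _ - _
    rw [hk.CC g hg, hk g hg]
  have hA0 : ∀ c d, X.com c d → X.A1 (fn X X.cl w) c d = (-18) * fn X X.cl w c d := by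
    intro c d h
    rw [A1_val hk hw h, vc_A (cl_mem h), hw c d h]
  have hA : ∀ c d, X.com c d → X.A1 ψ c d = (-18) * ψ c d := by
    intro c d h
    have e : ψ = fun c d => X.CC (fn X X.cl w) c d + (fun c d => (-5832) * fn X X.cl w c d) c d := by
      funext c d; show _ - _ = _ + _; ring
    rw [e, Ctx.A1_add, Ctx.A1_mul, Ctx.A1_CC, hA0 c d h]
    have e2 : X.CC (X.A1 (fn X X.cl w)) c d = (-18) * X.CC (fn X X.cl w) c d := by
      show ∑ x ∈ X.PT, X.A1 (fn X X.cl w) (X.ρ (X.t x) c) (X.ρ (X.t x) d) = _ * ∑ x ∈ X.PT, _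
      rw [Finset.mul_sum]
      exact Finset.sum_congr rfl fun x _ => hA0 _ _ (X.inv _ h)
    rw [e2]
    ring
  obtain ⟨β, hβ⟩ := orbs.exists_beta hF hK
  have z3510 : β 3510 = 0 := by
    have hcd := chkCl_spec cl_02
    rw [← hcd.2, ← hβ _ _ hcd.1]
    show X.CC (fn X X.cl w) 0 136 - 5832 * fn X X.cl w 0 136 = 0
    rw [CC_0 hv hk hw, hw _ _ hcd.1, hcd.2]
    show 3512 * ((vc 3510 : ℚ) : ℂ) + 56320 * ((vc 351 : ℚ) : ℂ) + 247104 * ((vc 36360 : ℚ) : ℂ) - 5832 * ((vc 3510 : ℚ) : ℂ) = 0
    simp only [vc_351, vc_3510, vc_36360]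
    norm_num
  have z4180 : β 4180 = 0 := by
    have hcd := chkCl_spec cl_10
    rw [← hcd.2, ← hβ _ _ hcd.1]
    show X.CC (fn X X.cl w) 1 4 - 5832 * fn X X.cl w 1 4 = 0
    rw [CC_3 hv hk hw, hw _ _ hcd.1, hcd.2]
    show 6840 * ((vc 4180 : ℚ) : ℂ) + 9216 * ((vc 8126 : ℚ) : ℂ) + 46080 * ((vc 12063 : ℚ) : ℂ) + 46080 * ((vc 16063 : ℚ) : ℂ) + 320 * ((vc 36360 : ℚ) : ℂ) + 34560 * ((vc 36072 : ℚ) : ℂ) + 163840 * ((vc 36036 : ℚ) : ℂ) - 5832 * ((vc 4180 : ℚ) : ℂ) = 0
    simp only [vc_4180, vc_8126, vc_12063, vc_16063, vc_36036, vc_36072, vc_36360]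
    norm_num
  have z16108 : β 16108 = 0 := by
    have hcd := chkCl_spec cl_20
    rw [← hcd.2, ← hβ _ _ hcd.1]
    show X.CC (fn X X.cl w) 8 307872 - 5832 * fn X X.cl w 8 307872 = 0
    rw [CC_7 hv hk hw, hw _ _ hcd.1, hcd.2]
    show 2 * ((vc 351 : ℚ) : ℂ) + 486 * ((vc 8126 : ℚ) : ℂ) + 5832 * ((vc 12063 : ℚ) : ℂ) + 5832 * ((vc 16063 : ℚ) : ℂ) + 10312 * ((vc 16108 : ℚ) : ℂ) + 4320 * ((vc 16000 : ℚ) : ℂ) + 122472 * ((vc 24036 : ℚ) : ℂ) + 270 * ((vc 36360 : ℚ) : ℂ) + 65610 * ((vc 36072 : ℚ) : ℂ) + 91800 * ((vc 36036 : ℚ) : ℂ) - 5832 * ((vc 16108 : ℚ) : ℂ) = 0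
    simp only [vc_351, vc_8126, vc_12063, vc_16000, vc_16063, vc_16108, vc_24036, vc_36036, vc_36072, vc_36360]
    norm_num
  have z36360 : β 36360 = 0 := by
    have hcd := chkCl_spec cl_30
    rw [← hcd.2, ← hβ _ _ hcd.1]
    show X.CC (fn X X.cl w) 307496 308352 - 5832 * fn X X.cl w 307496 308352 = 0
    rw [CC_10 hv hk hw, hw _ _ hcd.1, hcd.2]
    show 2 * ((vc 3510 : ℚ) : ℂ) + 3150 * ((vc 4180 : ℚ) : ℂ) + 44800 * ((vc 16108 : ℚ) : ℂ) + 11520 * ((vc 24036 : ℚ) : ℂ) + 6664 * ((vc 36360 : ℚ) : ℂ) + 151200 * ((vc 36072 : ℚ) : ℂ) + 89600 * ((vc 36036 : ℚ) : ℂ) - 5832 * ((vc 36360 : ℚ) : ℂ) = 0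
    simp only [vc_3510, vc_4180, vc_16108, vc_24036, vc_36036, vc_36072, vc_36360]
    norm_num
  intro c d h
  have h1 := zero_lin (fun k hk => eqA hK hβ hA hk) z3510 z4180 z16108 z36360 (cl_mem h)
  rw [← hβ c d h] at h1
  exact sub_eq_zero.1 h1

/-- the degree 112168056 -/
theorem exists_c : ∃ χ : IrrCharacter Fi24, charDegree (χ : Fi24 → ℂ) = 112168056 := by
  have : Finite Fi24 := Cfsg.Agent.R08.FiTwentyFour.finite_Fi24
  set w : ℕ → ℂ := fun k => ((vc k : ℚ) : ℂ) with hw
  have hv := orbs.isFn w
  have hab := (chkCl_spec cl_02)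
  refine Ctx.exists_deg (X := X) (P := True) (τ := (-18)) (ω := 5832) (v := fn X X.cl w) hv ?_ ?_ (fun _ => vc_C) ?_
    (n2 := 9720970056) (s2 := 12393/143) ?_ sum_one ?_
  · show fn X X.cl w 0 136 = 1
    rw [Ctx.fn_of hab.1, hab.2, hw]
    simp only [vc_3510]
    norm_num
  · intro c d h
    rw [A1_val (orbs.kInv w) (fun x y h => if_pos h) h, vc_A (cl_mem h), Ctx.fn_of h]
  · intro ψ hψ hK h1 h2 c d h
    obtain ⟨β, hβ⟩ := orbs.exists_beta hψ hK
    have k0 := h2 trivial _ _ (chkCl_spec cl_02).1
    have k3 := h2 trivial _ _ (chkCl_spec cl_10).1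
    have k7 := h2 trivial _ _ (chkCl_spec cl_20).1
    have k10 := h2 trivial _ _ (chkCl_spec cl_30).1
    rw [CC_0 hψ hK hβ, hβ _ _ (chkCl_spec cl_02).1, (chkCl_spec cl_02).2] at k0
    rw [CC_3 hψ hK hβ, hβ _ _ (chkCl_spec cl_10).1, (chkCl_spec cl_10).2] at k3
    rw [CC_7 hψ hK hβ, hβ _ _ (chkCl_spec cl_20).1, (chkCl_spec cl_20).2] at k7
    rw [CC_10 hψ hK hβ, hβ _ _ (chkCl_spec cl_30).1, (chkCl_spec cl_30).2] at k10
    rw [hβ c d h, vc_lin (fun k hk => eqA hK hβ h1 hk) (by linear_combination k0) (by linear_combination k3)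
      (by linear_combination k7) (by linear_combination k10) (cl_mem h), Ctx.fn_of h]
    show _ = ψ 0 136 * _
    rw [hβ _ _ hab.1, hab.2]
  · have e : ∀ x y, fn X X.cl w x y * conj (fn X X.cl w x y) = fn X X.cl (fun k => ((vc k ^ 2 : ℚ) : ℂ)) x y := by
      intro x y
      by_cases h : X.com x y
      · rw [Ctx.fn_of h, Ctx.fn_of h, hw]
        simp only [map_ratCast]
        push_cast
        ring
      · have e1 : fn X X.cl w x y = 0 := if_neg h
        have e2 : fn X X.cl (fun k => ((vc k ^ 2 : ℚ) : ℂ)) x y = 0 := if_neg h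
        rw [e1, e2, zero_mul]
    simp only [e]
    rw [sum_fn]
    simp only [vc_3510, vc_693, vc_351, vc_4180, vc_8126, vc_12063, vc_16063, vc_16108, vc_16000, vc_24036, vc_36360, vc_36072, vc_36036]
    norm_num
  · norm_num

end Cfsg.Agent.H30.FiE
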