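import Cfsg.Agent.H30.FiE.DegD
import Cfsg.Agent.H30.FiE.DegE
import Cfsg.Agent.H30.FiE.DegF
import Cfsg.Agent.H665.NoPQ
import Cfsg.Agent.Blocks.Knorr
import Cfsg.Agent.H424.DegTools
import Cfsg.Agent.R08.FiTwentyFour

/-!
# Odd degrees of `Fi24` are degrees of `Fi24'` (helper30)

* `exists_down_d`, `exists_down_e`, `exists_down_f` : the degrees 1264015025, 3208653525, 35873145 of `Fi24'`;
* `hasDZ` : `Fi24'` has a character of defect zero for `p = 5, 7, 13, 17, 23, 29`;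
* `hasDZ_five` : the case `p = 5`, for every group isomorphic to `Fi24'`.
-/

set_option autoImplicit false

namespace Cfsg.Agent.H30.FiE.Down

open Cfsg
open Cfsg.Spor (Fi24)
open Cfsg.Agent.H665.NoPQ (HasDZ)

universe u

theorem exists_down {D : ℕ} (h : ∃ χ : IrrCharacter Fi24, charDegree (χ : Fi24 → ℂ) = D) (hD : ¬ 2 ∣ D) :
    ∃ θ : IrrCharacter Spor.Fi24', charDegree (θ : Spor.Fi24' → ℂ) = D := by
  have hfin : Finite Fi24 := Cfsg.Agent.R08.FiTwentyFour.finite_Fi24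
  obtain ⟨χ, hχ⟩ := h
  obtain ⟨c, ⟨θ, hθ⟩, ⟨k, hk⟩, h2⟩ := Cfsg.Agent.H424.DegTools.clifford_down (commutator Fi24)
    (d := charDegree (χ : Fi24 → ℂ)) ⟨χ, rfl⟩
  rw [Cfsg.Agent.R08.FiTwentyFour.index_commutator] at h2
  rw [hχ] at hk h2
  have hc : 0 < c := by
    rcases Nat.eq_zero_or_pos c with h | h
    · rw [h, zero_mul] at hk
      exact absurd (hk ▸ dvd_zero 2) hD
    · exact h
  rw [hk, Nat.mul_div_cancel_left _ hc] at h2
  refine ⟨θ, ?_⟩
  have h3 : charDegree (θ : Spor.Fi24' → ℂ) = c := hθ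
  rw [h3]
  rcases (Nat.dvd_prime Nat.prime_two).1 h2 with rfl | rfl
  · rw [hk, mul_one]
  · exact absurd ⟨c, by rw [hk, mul_comm]⟩ hD

theorem exists_down_d : ∃ θ : IrrCharacter Spor.Fi24', charDegree (θ : Spor.Fi24' → ℂ) = 1264015025 :=
  exists_down exists_d (by norm_num)

theorem exists_down_e : ∃ θ : IrrCharacter Spor.Fi24', charDegree (θ : Spor.Fi24' → ℂ) = 3208653525 :=
  exists_down exists_e (by norm_num)

theorem exists_down_f : ∃ θ : IrrCharacter Spor.Fi24', charDegree (θ : Spor.Fi24' → ℂ) = 35873145 :=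
  exists_down exists_f (by norm_num)

theorem card_eq : Nat.card Spor.Fi24' = 2 ^ 21 * 3 ^ 16 * 5 ^ 2 * 7 ^ 3 * 11 * 13 * 17 * 23 * 29 := by
  have h : Nat.card Spor.Fi24' = 1255205709190661721292800 := Cfsg.Agent.R08.FiTwentyFour.card_commutator
  rw [h]
  norm_num

theorem hasDZ_of_dvd {G : Type u} [Group G] [Finite G] {p n : ℕ} (hp : p.Prime)
    (h : ∃ χ : IrrCharacter G, p ^ n ∣ charDegree (χ : G → ℂ)) (hn : ¬ p ^ (n + 1) ∣ Nat.card G) : HasDZ p G := by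
  obtain ⟨χ, hχ⟩ := h
  refine ⟨χ, le_antisymm ?_ ?_⟩
  · exact (Nat.factorization_le_iff_dvd (Blocks.Basic.charDegree_pos χ.2).ne' Nat.card_pos.ne').2
      (Cfsg.Agent.Blocks.Knorr.charDegree_dvd χ.2) p
  · have h1 : (Nat.card G).factorization p ≤ n := by
      by_contra hc
      exact hn ((hp.pow_dvd_iff_le_factorization Nat.card_pos.ne').2 (by omega))
    exact h1.trans ((hp.pow_dvd_iff_le_factorization (Blocks.Basic.charDegree_pos χ.2).ne').1 hχ)

theorem hasDZ_congr {G H : Type*} [Group G] [Group H] (e : G ≃* H) {p : ℕ} (h : HasDZ p G) : HasDZ p H := by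
  obtain ⟨χ, h⟩ := h
  refine ⟨⟨(χ : G → ℂ) ∘ e.symm, Cfsg.Agent.Characters.Core.isIrr_comp (e.symm : H →* G) e.symm.surjective χ.2⟩, ?_⟩
  rw [← Nat.card_congr e.toEquiv, ← h]
  congr 1
  rw [Blocks.Basic.charDegree_def, Blocks.Basic.charDegree_def]
  simp

/-- Characters of defect zero of `Fi24'` -/
theorem hasDZ {p : ℕ} (h : p ∈ [5, 7, 13, 17, 23, 29]) : HasDZ p Spor.Fi24' := by
  have hc : Nat.card Spor.Fi24' = 1255205709190661721292800 := Cfsg.Agent.R08.FiTwentyFour.card_commutator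
  have hfin : Finite Spor.Fi24' := Nat.finite_of_card_ne_zero (by rw [hc]; norm_num)
  obtain ⟨χ, hχ⟩ := exists_down_d
  simp only [List.mem_cons, List.not_mem_nil, or_false] at h
  rcases h with rfl | rfl | rfl | rfl | rfl | rfl
  · exact hasDZ_of_dvd (n := 2) (by norm_num) ⟨χ, by rw [hχ]; norm_num⟩ (by rw [hc]; norm_num)
  · exact hasDZ_of_dvd (n := 3) (by norm_num) ⟨χ, by rw [hχ]; norm_num⟩ (by rw [hc]; norm_num)
  · exact hasDZ_of_dvd (n := 1) (by norm_num) ⟨χ, by rw [hχ]; norm_num⟩ (by rw [hc]; norm_num)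
  · exact hasDZ_of_dvd (n := 1) (by norm_num) ⟨χ, by rw [hχ]; norm_num⟩ (by rw [hc]; norm_num)
  · exact hasDZ_of_dvd (n := 1) (by norm_num) ⟨χ, by rw [hχ]; norm_num⟩ (by rw [hc]; norm_num)
  · exact hasDZ_of_dvd (n := 1) (by norm_num) ⟨χ, by rw [hχ]; norm_num⟩ (by rw [hc]; norm_num)

/-- **`Fi24'` has an irreducible character of 5-defect zero.** -/
theorem hasDZ_five {S : Type u} [Group S] (h : Spor.IsoFi24' S) : HasDZ 5 S := by
  obtain ⟨e⟩ := h
  exact hasDZ_congr e.symm (hasDZ (by simp))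

end Cfsg.Agent.H30.FiE.Down
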