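import Cfsg.Agent.H30.PairOrb
import Cfsg.Agent.KFacts.FiTF.FixMask

/-!
# Kernel evaluations for `Fi24` on the pairs of transpositions (helper30)

* `M w` : the mask of the points commuting with the point `p`, if the word `w` takes `p` to `0`;
* `sq ws V` : saturation of the set `V` by the list of words `ws`;
* `peelB` : the counts of a set along a list of sets, and `peel_sum`.
-/

set_option autoImplicit false
set_option maxRecDepth 100000

namespace Cfsg.Agent.H30.FiE

open Cfsg Cfsg.Agent.Lib.PermNet Cfsg.Agent.Lib.PermNetPt Cfsg.Agent.Lib.PermNetOrbit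
open Cfsg.Agent.Fischer.Fi24RepDef Cfsg.Agent.Fischer.Fi24Rep
open Cfsg.Agent.Fischer.Fi24RepOrb (UG)
open Cfsg.Agent.Fischer.Fi24RepOrbData (UW)
open Cfsg.Spor (Fi24)
open Cfsg.Spor.Fi24 (Gen)
open Cfsg.Agent.KFacts.FiTF.Pts

/-- the mask of the points commuting with the point `p`, if `w` takes `p` to `0` -/
noncomputable def M (w : List Gen) : ℕ := appWord (nw w false) UW

/-- saturation along a list of words -/
noncomputable def sq (ws : List (List Gen)) : ℕ → ℕ :=
  List.rec (motive := fun _ => ℕ → ℕ) (fun V => V)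
    (fun w _ ih V => seq (Nat.lor V (appWord (nw w false) V)) ih) ws

theorem sq_nil (V : ℕ) : sq [] V = V := rfl

theorem sq_cons (w : List Gen) (ws : List (List Gen)) (V : ℕ) :
    sq (w :: ws) V = sq ws (V ||| appWord (nw w false) V) := by
  show seq (Nat.lor V (appWord (nw w false) V)) (sq ws) = _
  rw [seq_eq]
  rfl

theorem sq_spec {K : Subgroup Fi24} {ws : List (List Gen)} (hK : ∀ w ∈ ws, word w ∈ K) {V p : ℕ}
    (h : (sq ws V).testBit p = true) : ∃ g ∈ K, V.testBit (rho g p) = true := by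
  induction ws generalizing V with
  | nil => exact ⟨1, K.one_mem, by rw [map_one]; exact h⟩
  | cons w ws ih =>
    rw [sq_cons] at h
    obtain ⟨g, hg, h'⟩ := ih (fun w' h' => hK w' (List.mem_cons_of_mem _ h')) h
    rw [Nat.testBit_or, Bool.or_eq_true, testBit_appWord (wok w false), ← rho_word] at h'
    rcases h' with h' | h'
    · exact ⟨g, hg, h'⟩
    · exact ⟨word w * g, K.mul_mem (hK w List.mem_cons_self) hg, by rw [map_mul, Equiv.Perm.mul_apply]; exact h'⟩

theorem sq_point {K : Subgroup Fi24} {ws : List (List Gen)} (hK : ∀ w ∈ ws, word w ∈ K) {q p : ℕ}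
    (h : (sq ws (Nat.pow 2 q)).testBit p = true) : ∃ g ∈ K, rho g q = p := by
  obtain ⟨g, hg, h'⟩ := sq_spec hK h
  refine ⟨g⁻¹, K.inv_mem hg, ?_⟩
  have h2 : (2 ^ q : ℕ).testBit (rho g p) = true := h'
  rw [Nat.testBit_two_pow] at h2
  have h3 : q = rho g p := by simpa using h2
  rw [h3, map_inv]
  exact (rho g).symm_apply_apply p

/-- the saturation of a point -/
@[irreducible] noncomputable def sqp (ws : List (List Gen)) (d : ℕ) : ℕ := sq ws (Nat.pow 2 d)

theorem sqp_point {K : Subgroup Fi24} {ws : List (List Gen)} (hK : ∀ w ∈ ws, word w ∈ K) {q p : ℕ}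
    (h : (sqp ws q).testBit p = true) : ∃ g ∈ K, rho g q = p := by
  unfold sqp at h
  exact sq_point hK h

/-- The counts of `m` along the sets of the list. -/
noncomputable def peelB (k : ℕ) (l : List (ℕ × ℕ)) : ℕ → Bool :=
  List.rec (motive := fun _ => ℕ → Bool) (fun m => Nat.beq m 0)
    (fun p _ ih m => seqB (Nat.land m p.1) fun y => and (Nat.beq (pc k y) p.2) (seqB (Nat.xor m y) ih)) l

theorem peelB_nil (k m : ℕ) : peelB k [] m = Nat.beq m 0 := rfl

theorem peelB_cons (k : ℕ) (p : ℕ × ℕ) (l : List (ℕ × ℕ)) (m : ℕ) :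
    peelB k (p :: l) m = (Nat.beq (pc k (m &&& p.1)) p.2 && peelB k l (m ^^^ (m &&& p.1))) := by
  show seqB (Nat.land m p.1) (fun y => and (Nat.beq (pc k y) p.2) (seqB (Nat.xor m y) (peelB k l))) = _
  rw [seqB_eq, seqB_eq]
  rfl

theorem peel_sum {ι : Type*} {k : ℕ} (l : List ι) {q s : ι → ℕ} {v : ι → ℂ} {F : ℕ → ℂ} {m : ℕ}
    (hF : ∀ i ∈ l, ∀ x, (q i).testBit x = true → m.testBit x = true → F x = v i) (hm : m < 2 ^ 2 ^ k)
    (h : peelB k (l.map fun i => (q i, s i)) m = true) :
    ∑ x ∈ bits (2 ^ k) m, F x = (l.map fun i => (s i : ℂ) * v i).sum := by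
  induction l generalizing m with
  | nil =>
    have h1 : m = 0 := Nat.eq_of_beq_eq_true h
    subst h1
    rw [List.map_nil, List.sum_nil]
    refine Finset.sum_eq_zero fun x hx => ?_
    rw [mem_bits] at hx
    simp at hx
  | cons i l ih =>
    rw [List.map_cons, peelB_cons, Bool.and_eq_true] at h
    obtain ⟨h1, h2⟩ := h
    have hy : m &&& q i < 2 ^ 2 ^ k := lt_of_le_of_lt Nat.and_le_left hm
    have h3 : (bits (2 ^ k) (m &&& q i)).card = s i := by
      rw [← pc_eq k _ hy]
      exact Nat.eq_of_beq_eq_true h1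
    have hx : m ^^^ (m &&& q i) < 2 ^ 2 ^ k := Nat.xor_lt_two_pow hm hy
    have h4 := ih (m := m ^^^ (m &&& q i)) (fun j hj x hq hmx => hF j (List.mem_cons_of_mem _ hj) x hq (by
      rw [Nat.testBit_xor, Nat.testBit_and] at hmx
      cases hc : m.testBit x
      · rw [hc] at hmx; simp at hmx
      · rfl)) hx h2
    rw [List.map_cons, List.sum_cons, ← h4]
    have hd : Disjoint (bits (2 ^ k) (m &&& q i)) (bits (2 ^ k) (m ^^^ (m &&& q i))) := by
      rw [Finset.disjoint_left]
      intro x hx hx'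
      rw [mem_bits, Nat.testBit_and, Bool.and_eq_true] at hx
      rw [mem_bits, Nat.testBit_xor, Nat.testBit_and, hx.2.1, hx.2.2] at hx'
      simp at hx'
    have hu : bits (2 ^ k) m = bits (2 ^ k) (m &&& q i) ∪ bits (2 ^ k) (m ^^^ (m &&& q i)) := by
      ext x
      rw [Finset.mem_union, mem_bits, mem_bits, mem_bits, Nat.testBit_xor, Nat.testBit_and]
      cases hc : m.testBit x <;> cases hd : (q i).testBit x <;> simp
    rw [hu, Finset.sum_union hd]
    congr 1
    have h5 : ∀ x ∈ bits (2 ^ k) (m &&& q i), F x = v i := by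
      intro x hx
      rw [mem_bits, Nat.testBit_and, Bool.and_eq_true] at hx
      exact hF i List.mem_cons_self x hx.2.2 hx.2.1
    rw [Finset.sum_congr rfl h5, Finset.sum_const, nsmul_eq_mul, h3]

/-- a set along which `m` is peeled -/
theorem peel_mem {ι : Type*} {k : ℕ} (l : List ι) {q s : ι → ℕ} {m : ℕ}
    (h : peelB k (l.map fun i => (q i, s i)) m = true) {x : ℕ} (hx : m.testBit x = true) :
    ∃ i ∈ l, (q i).testBit x = true := by
  induction l generalizing m with
  | nil =>
    have h1 : m = 0 := Nat.eq_of_beq_eq_true h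
    subst h1
    simp at hx
  | cons i l ih =>
    rw [List.map_cons, peelB_cons, Bool.and_eq_true] at h
    by_cases hq : (q i).testBit x = true
    · exact ⟨i, List.mem_cons_self, hq⟩
    · obtain ⟨j, hj, hj'⟩ := ih (m := m ^^^ (m &&& q i)) h.2 (by
        rw [Nat.testBit_xor, Nat.testBit_and, hx, Bool.not_eq_true _ |>.mp hq]; rfl)
      exact ⟨j, List.mem_cons_of_mem _ hj, hj'⟩

attribute [irreducible] peelB

end Cfsg.Agent.H30.FiE
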