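import Cfsg.Agent.H30.FiE.ChkA
import Cfsg.Agent.H30.FiE.ChkB

/-!
# `Fi24` on the commuting pairs of transpositions: the orbits (helper30)

* `orbs` : the orbits of the stabiliser of `{a, b}` on the related pairs;
* `hf_val`, `rs_val` : the rows.
-/

set_option autoImplicit false
set_option maxRecDepth 100000

namespace Cfsg.Agent.H30.FiE

open Cfsg Cfsg.Agent.Lib.PermNet Cfsg.Agent.Lib.PermNetPt Cfsg.Agent.Lib.PermNetOrbit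
open Cfsg.Agent.Fischer.Fi24RepDef Cfsg.Agent.Fischer.Fi24Rep
open Cfsg.Agent.Fischer.Fi24RepOrb (UG)
open Cfsg.Spor (Fi24)
open Cfsg.Spor.Fi24 (Gen)
open Cfsg.Agent.H30.PairFn (Ctx)
open Cfsg.Agent.H30.PairFn.Ctx (Ent Orbs IsFn KInv hf rs)

attribute [local instance] Classical.propDecidable

theorem T_cp0 : X.T 0 = 0 := (T_eq _).trans tyc_0
theorem T_cp1 : X.T 1 = 1 := (T_eq _).trans tyc_1
theorem T_cp2 : X.T 8 = 2 := (T_eq _).trans tyc_2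
theorem T_cp3 : X.T 307496 = 3 := (T_eq _).trans tyc_3

theorem orbR0 (x : ℕ) (hx : R0.testBit x = true) : X.T x = 0 ∧ ∃ g ∈ X.K, X.ρ g 0 = x := by
  obtain ⟨g, hg, -, hgx⟩ := orb_of memR_0 hx
  refine ⟨?_, g, hg, hgx⟩
  rw [← T_cp0, ← hgx]
  exact Ctx.T_inv (X := X) hg _

theorem orbR1 (x : ℕ) (hx : R1.testBit x = true) : X.T x = 1 ∧ ∃ g ∈ X.K, X.ρ g 1 = x := by
  obtain ⟨g, hg, -, hgx⟩ := orb_of memR_1 hx
  refine ⟨?_, g, hg, hgx⟩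
  rw [← T_cp1, ← hgx]
  exact Ctx.T_inv (X := X) hg _

theorem orbR2 (x : ℕ) (hx : R2.testBit x = true) : X.T x = 2 ∧ ∃ g ∈ X.K, X.ρ g 8 = x := by
  obtain ⟨g, hg, -, hgx⟩ := orb_of memR_2 hx
  refine ⟨?_, g, hg, hgx⟩
  rw [← T_cp2, ← hgx]
  exact Ctx.T_inv (X := X) hg _

theorem orbR3 (x : ℕ) (hx : R3.testBit x = true) : X.T x = 3 ∧ ∃ g ∈ X.K, X.ρ g 307496 = x := by
  obtain ⟨g, hg, -, hgx⟩ := orb_of memR_3 hx
  refine ⟨?_, g, hg, hgx⟩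
  rw [← T_cp3, ← hgx]
  exact Ctx.T_inv (X := X) hg _

theorem orbQ00 (x : ℕ) (hx : Q00.testBit x = true) : ∃ g ∈ X.K, X.ρ g 0 = 0 ∧ X.ρ g 1 = x := by
  obtain ⟨g, hg, hc, hgx⟩ := orb_of mem_00 hx
  exact ⟨g, hg, hc _ (by simp), hgx⟩

theorem clQ00 (x : ℕ) (hx : Q00.testBit x = true) : X.com 0 x ∧ X.cl 0 x = 693 := by
  obtain ⟨g, hg, hc, hgx⟩ := orbQ00 x hx
  obtain ⟨h1, h2⟩ := chkCl_spec cl_00
  have h3 := X.inv g h1
  rw [hc, hgx] at h3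
  have h4 := Ctx.cl_inv (X := X) hg 0 1
  rw [hc, hgx] at h4
  exact ⟨h3, h4.trans h2⟩

theorem orbQ01 (x : ℕ) (hx : Q01.testBit x = true) : ∃ g ∈ X.K, X.ρ g 0 = 0 ∧ X.ρ g 3240 = x := by
  obtain ⟨g, hg, hc, hgx⟩ := orb_of mem_01 hx
  exact ⟨g, hg, hc _ (by simp), hgx⟩

theorem clQ01 (x : ℕ) (hx : Q01.testBit x = true) : X.com 0 x ∧ X.cl 0 x = 351 := by
  obtain ⟨g, hg, hc, hgx⟩ := orbQ01 x hx
  obtain ⟨h1, h2⟩ := chkCl_spec cl_01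
  have h3 := X.inv g h1
  rw [hc, hgx] at h3
  have h4 := Ctx.cl_inv (X := X) hg 0 3240
  rw [hc, hgx] at h4
  exact ⟨h3, h4.trans h2⟩

theorem orbQ02 (x : ℕ) (hx : Q02.testBit x = true) : ∃ g ∈ X.K, X.ρ g 0 = 0 ∧ X.ρ g 136 = x := by
  obtain ⟨g, hg, hc, hgx⟩ := orb_of mem_02 hx
  exact ⟨g, hg, hc _ (by simp), hgx⟩

theorem clQ02 (x : ℕ) (hx : Q02.testBit x = true) : X.com 0 x ∧ X.cl 0 x = 3510 := by
  obtain ⟨g, hg, hc, hgx⟩ := orbQ02 x hx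
  obtain ⟨h1, h2⟩ := chkCl_spec cl_02
  have h3 := X.inv g h1
  rw [hc, hgx] at h3
  have h4 := Ctx.cl_inv (X := X) hg 0 136
  rw [hc, hgx] at h4
  exact ⟨h3, h4.trans h2⟩

theorem orbQ10 (x : ℕ) (hx : Q10.testBit x = true) : ∃ g ∈ X.K, X.ρ g 1 = 1 ∧ X.ρ g 4 = x := by
  obtain ⟨g, hg, hc, hgx⟩ := orb_of mem_10 hx
  exact ⟨g, hg, hc _ (by simp), hgx⟩

theorem clQ10 (x : ℕ) (hx : Q10.testBit x = true) : X.com 1 x ∧ X.cl 1 x = 4180 := by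
  obtain ⟨g, hg, hc, hgx⟩ := orbQ10 x hx
  obtain ⟨h1, h2⟩ := chkCl_spec cl_10
  have h3 := X.inv g h1
  rw [hc, hgx] at h3
  have h4 := Ctx.cl_inv (X := X) hg 1 4
  rw [hc, hgx] at h4
  exact ⟨h3, h4.trans h2⟩

theorem orbQ11 (x : ℕ) (hx : Q11.testBit x = true) : ∃ g ∈ X.K, X.ρ g 1 = 1 ∧ X.ρ g 0 = x := by
  obtain ⟨g, hg, hc, hgx⟩ := orb_of mem_11 hx
  exact ⟨g, hg, hc _ (by simp), hgx⟩

theorem clQ11 (x : ℕ) (hx : Q11.testBit x = true) : X.com 1 x ∧ X.cl 1 x = 693 := by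
  obtain ⟨g, hg, hc, hgx⟩ := orbQ11 x hx
  obtain ⟨h1, h2⟩ := chkCl_spec cl_11
  have h3 := X.inv g h1
  rw [hc, hgx] at h3
  have h4 := Ctx.cl_inv (X := X) hg 1 0
  rw [hc, hgx] at h4
  exact ⟨h3, h4.trans h2⟩

theorem orbQ12 (x : ℕ) (hx : Q12.testBit x = true) : ∃ g ∈ X.K, X.ρ g 1 = 1 ∧ X.ρ g 307968 = x := by
  obtain ⟨g, hg, hc, hgx⟩ := orb_of mem_12 hx
  exact ⟨g, hg, hc _ (by simp), hgx⟩

theorem clQ12 (x : ℕ) (hx : Q12.testBit x = true) : X.com 1 x ∧ X.cl 1 x = 8126 := by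
  obtain ⟨g, hg, hc, hgx⟩ := orbQ12 x hx
  obtain ⟨h1, h2⟩ := chkCl_spec cl_12
  have h3 := X.inv g h1
  rw [hc, hgx] at h3
  have h4 := Ctx.cl_inv (X := X) hg 1 307968
  rw [hc, hgx] at h4
  exact ⟨h3, h4.trans h2⟩

theorem orbQ13 (x : ℕ) (hx : Q13.testBit x = true) : ∃ g ∈ X.K, X.ρ g 1 = 1 ∧ X.ρ g 307464 = x := by
  obtain ⟨g, hg, hc, hgx⟩ := orb_of mem_13 hx
  exact ⟨g, hg, hc _ (by simp), hgx⟩

theorem clQ13 (x : ℕ) (hx : Q13.testBit x = true) : X.com 1 x ∧ X.cl 1 x = 12063 := by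
  obtain ⟨g, hg, hc, hgx⟩ := orbQ13 x hx
  obtain ⟨h1, h2⟩ := chkCl_spec cl_13
  have h3 := X.inv g h1
  rw [hc, hgx] at h3
  have h4 := Ctx.cl_inv (X := X) hg 1 307464
  rw [hc, hgx] at h4
  exact ⟨h3, h4.trans h2⟩

theorem orbQ20 (x : ℕ) (hx : Q20.testBit x = true) : ∃ g ∈ X.K, X.ρ g 8 = 8 ∧ X.ρ g 307872 = x := by
  obtain ⟨g, hg, hc, hgx⟩ := orb_of mem_20 hx
  exact ⟨g, hg, hc _ (by simp), hgx⟩

theorem clQ20 (x : ℕ) (hx : Q20.testBit x = true) : X.com 8 x ∧ X.cl 8 x = 16108 := by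
  obtain ⟨g, hg, hc, hgx⟩ := orbQ20 x hx
  obtain ⟨h1, h2⟩ := chkCl_spec cl_20
  have h3 := X.inv g h1
  rw [hc, hgx] at h3
  have h4 := Ctx.cl_inv (X := X) hg 8 307872
  rw [hc, hgx] at h4
  exact ⟨h3, h4.trans h2⟩

theorem orbQ21 (x : ℕ) (hx : Q21.testBit x = true) : ∃ g ∈ X.K, X.ρ g 8 = 8 ∧ X.ρ g 0 = x := by
  obtain ⟨g, hg, hc, hgx⟩ := orb_of mem_21 hx
  exact ⟨g, hg, hc _ (by simp), hgx⟩

theorem clQ21 (x : ℕ) (hx : Q21.testBit x = true) : X.com 8 x ∧ X.cl 8 x = 351 := by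
  obtain ⟨g, hg, hc, hgx⟩ := orbQ21 x hx
  obtain ⟨h1, h2⟩ := chkCl_spec cl_21
  have h3 := X.inv g h1
  rw [hc, hgx] at h3
  have h4 := Ctx.cl_inv (X := X) hg 8 0
  rw [hc, hgx] at h4
  exact ⟨h3, h4.trans h2⟩

theorem orbQ22 (x : ℕ) (hx : Q22.testBit x = true) : ∃ g ∈ X.K, X.ρ g 8 = 8 ∧ X.ρ g 1 = x := by
  obtain ⟨g, hg, hc, hgx⟩ := orb_of mem_22 hx
  exact ⟨g, hg, hc _ (by simp), hgx⟩

theorem clQ22 (x : ℕ) (hx : Q22.testBit x = true) : X.com 8 x ∧ X.cl 8 x = 8126 := by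
  obtain ⟨g, hg, hc, hgx⟩ := orbQ22 x hx
  obtain ⟨h1, h2⟩ := chkCl_spec cl_22
  have h3 := X.inv g h1
  rw [hc, hgx] at h3
  have h4 := Ctx.cl_inv (X := X) hg 8 1
  rw [hc, hgx] at h4
  exact ⟨h3, h4.trans h2⟩

theorem orbQ23 (x : ℕ) (hx : Q23.testBit x = true) : ∃ g ∈ X.K, X.ρ g 8 = 8 ∧ X.ρ g 308352 = x := by
  obtain ⟨g, hg, hc, hgx⟩ := orb_of mem_23 hx
  exact ⟨g, hg, hc _ (by simp), hgx⟩

theorem clQ23 (x : ℕ) (hx : Q23.testBit x = true) : X.com 8 x ∧ X.cl 8 x = 24036 := by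
  obtain ⟨g, hg, hc, hgx⟩ := orbQ23 x hx
  obtain ⟨h1, h2⟩ := chkCl_spec cl_23
  have h3 := X.inv g h1
  rw [hc, hgx] at h3
  have h4 := Ctx.cl_inv (X := X) hg 8 308352
  rw [hc, hgx] at h4
  exact ⟨h3, h4.trans h2⟩

theorem orbQ24 (x : ℕ) (hx : Q24.testBit x = true) : ∃ g ∈ X.K, X.ρ g 8 = 8 ∧ X.ρ g 768 = x := by
  obtain ⟨g, hg, hc, hgx⟩ := orb_of mem_24 hx
  exact ⟨g, hg, hc _ (by simp), hgx⟩

theorem clQ24 (x : ℕ) (hx : Q24.testBit x = true) : X.com 8 x ∧ X.cl 8 x = 16063 := by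
  obtain ⟨g, hg, hc, hgx⟩ := orbQ24 x hx
  obtain ⟨h1, h2⟩ := chkCl_spec cl_24
  have h3 := X.inv g h1
  rw [hc, hgx] at h3
  have h4 := Ctx.cl_inv (X := X) hg 8 768
  rw [hc, hgx] at h4
  exact ⟨h3, h4.trans h2⟩

theorem orbQ25 (x : ℕ) (hx : Q25.testBit x = true) : ∃ g ∈ X.K, X.ρ g 8 = 8 ∧ X.ρ g 296072 = x := by
  obtain ⟨g, hg, hc, hgx⟩ := orb_of mem_25 hx
  exact ⟨g, hg, hc _ (by simp), hgx⟩

theorem clQ25 (x : ℕ) (hx : Q25.testBit x = true) : X.com 8 x ∧ X.cl 8 x = 16000 := by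
  obtain ⟨g, hg, hc, hgx⟩ := orbQ25 x hx
  obtain ⟨h1, h2⟩ := chkCl_spec cl_25
  have h3 := X.inv g h1
  rw [hc, hgx] at h3
  have h4 := Ctx.cl_inv (X := X) hg 8 296072
  rw [hc, hgx] at h4
  exact ⟨h3, h4.trans h2⟩

theorem orbQ30 (x : ℕ) (hx : Q30.testBit x = true) : ∃ g ∈ X.K, X.ρ g 307496 = 307496 ∧ X.ρ g 308352 = x := by
  obtain ⟨g, hg, hc, hgx⟩ := orb_of mem_30 hx
  exact ⟨g, hg, hc _ (by simp), hgx⟩

theorem clQ30 (x : ℕ) (hx : Q30.testBit x = true) : X.com 307496 x ∧ X.cl 307496 x = 36360 := by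
  obtain ⟨g, hg, hc, hgx⟩ := orbQ30 x hx
  obtain ⟨h1, h2⟩ := chkCl_spec cl_30
  have h3 := X.inv g h1
  rw [hc, hgx] at h3
  have h4 := Ctx.cl_inv (X := X) hg 307496 308352
  rw [hc, hgx] at h4
  exact ⟨h3, h4.trans h2⟩

theorem orbQ31 (x : ℕ) (hx : Q31.testBit x = true) : ∃ g ∈ X.K, X.ρ g 307496 = 307496 ∧ X.ρ g 307840 = x := by
  obtain ⟨g, hg, hc, hgx⟩ := orb_of mem_31 hx
  exact ⟨g, hg, hc _ (by simp), hgx⟩

theorem clQ31 (x : ℕ) (hx : Q31.testBit x = true) : X.com 307496 x ∧ X.cl 307496 x = 24036 := by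
  obtain ⟨g, hg, hc, hgx⟩ := orbQ31 x hx
  obtain ⟨h1, h2⟩ := chkCl_spec cl_31
  have h3 := X.inv g h1
  rw [hc, hgx] at h3
  have h4 := Ctx.cl_inv (X := X) hg 307496 307840
  rw [hc, hgx] at h4
  exact ⟨h3, h4.trans h2⟩

theorem orbQ32 (x : ℕ) (hx : Q32.testBit x = true) : ∃ g ∈ X.K, X.ρ g 307496 = 307496 ∧ X.ρ g 1 = x := by
  obtain ⟨g, hg, hc, hgx⟩ := orb_of mem_32 hx
  exact ⟨g, hg, hc _ (by simp), hgx⟩

theorem clQ32 (x : ℕ) (hx : Q32.testBit x = true) : X.com 307496 x ∧ X.cl 307496 x = 12063 := by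
  obtain ⟨g, hg, hc, hgx⟩ := orbQ32 x hx
  obtain ⟨h1, h2⟩ := chkCl_spec cl_32
  have h3 := X.inv g h1
  rw [hc, hgx] at h3
  have h4 := Ctx.cl_inv (X := X) hg 307496 1
  rw [hc, hgx] at h4
  exact ⟨h3, h4.trans h2⟩

theorem orbQ33 (x : ℕ) (hx : Q33.testBit x = true) : ∃ g ∈ X.K, X.ρ g 307496 = 307496 ∧ X.ρ g 307480 = x := by
  obtain ⟨g, hg, hc, hgx⟩ := orb_of mem_33 hx
  exact ⟨g, hg, hc _ (by simp), hgx⟩

theorem clQ33 (x : ℕ) (hx : Q33.testBit x = true) : X.com 307496 x ∧ X.cl 307496 x = 36072 := by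
  obtain ⟨g, hg, hc, hgx⟩ := orbQ33 x hx
  obtain ⟨h1, h2⟩ := chkCl_spec cl_33
  have h3 := X.inv g h1
  rw [hc, hgx] at h3
  have h4 := Ctx.cl_inv (X := X) hg 307496 307480
  rw [hc, hgx] at h4
  exact ⟨h3, h4.trans h2⟩

theorem orbQ34 (x : ℕ) (hx : Q34.testBit x = true) : ∃ g ∈ X.K, X.ρ g 307496 = 307496 ∧ X.ρ g 266040 = x := by
  obtain ⟨g, hg, hc, hgx⟩ := orb_of mem_34 hx
  exact ⟨g, hg, hc _ (by simp), hgx⟩

theorem clQ34 (x : ℕ) (hx : Q34.testBit x = true) : X.com 307496 x ∧ X.cl 307496 x = 36036 := by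
  obtain ⟨g, hg, hc, hgx⟩ := orbQ34 x hx
  obtain ⟨h1, h2⟩ := chkCl_spec cl_34
  have h3 := X.inv g h1
  rw [hc, hgx] at h3
  have h4 := Ctx.cl_inv (X := X) hg 307496 266040
  rw [hc, hgx] at h4
  exact ⟨h3, h4.trans h2⟩

theorem rep_mem {x : ℕ} (hx : x ∈ X.PT) : X.T x < 4 ∧ ∃ g ∈ X.K, X.ρ g (cp (X.T x)) = x := by
  rw [mem_PT] at hx
  obtain ⟨i, hi, hix⟩ := peel_mem [(R0, 2), (R1, 3510), (R2, 56320), (R3, 247104)] (q := fun p => p.1)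
    (s := fun p => p.2) rep_all hx
  simp only [List.mem_cons, List.not_mem_nil, or_false] at hi
  rcases hi with rfl | rfl | rfl | rfl
  · obtain ⟨h1, h2⟩ := orbR0 x hix
    rw [h1]; exact ⟨by norm_num, h2⟩
  · obtain ⟨h1, h2⟩ := orbR1 x hix
    rw [h1]; exact ⟨by norm_num, h2⟩
  · obtain ⟨h1, h2⟩ := orbR2 x hix
    rw [h1]; exact ⟨by norm_num, h2⟩
  · obtain ⟨h1, h2⟩ := orbR3 x hix
    rw [h1]; exact ⟨by norm_num, h2⟩

theorem cover0 (x : ℕ) (hx : X.com 0 x) : ∃ e ∈ ent 0, e.Q.testBit x = true := by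
  obtain ⟨p, hp, hpx⟩ := peel_mem [(e00, 3510), (e01, 28160), (e02, 1)] (q := fun p => p.1.Q) (s := fun p => p.2) rs_0 ((M_spec chkw_0 x).2 hx)
  refine ⟨p.1, ?_, hpx⟩
  simp only [List.mem_cons, List.not_mem_nil, or_false] at hp
  unfold ent
  rcases hp with rfl | rfl | rfl <;> simp

theorem entQ0 (e : Ent) (he : e ∈ ent 0) (x : ℕ) (hx : e.Q.testBit x = true) :
    (∃ g ∈ X.K, X.ρ g 0 = 0 ∧ X.ρ g e.d = x) ∧ X.com 0 x ∧ X.cl 0 x = e.k := by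
  unfold ent at he
  simp only [List.mem_cons, List.not_mem_nil, or_false] at he
  rcases he with rfl | rfl | rfl
  · exact ⟨orbQ00 x hx, clQ00 x hx⟩
  · exact ⟨orbQ01 x hx, clQ01 x hx⟩
  · exact ⟨orbQ02 x hx, clQ02 x hx⟩

theorem entD0 (e : Ent) (he : e ∈ ent 0) : X.com 0 e.d ∧ X.cl 0 e.d = e.k ∧ X.T e.d = e.τ' := by
  unfold ent at he
  simp only [List.mem_cons, List.not_mem_nil, or_false] at he
  rcases he with rfl | rfl | rfl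
  · exact ⟨(chkCl_spec cl_00).1, (chkCl_spec cl_00).2, (T_eq _).trans ty_00⟩
  · exact ⟨(chkCl_spec cl_01).1, (chkCl_spec cl_01).2, (T_eq _).trans ty_01⟩
  · exact ⟨(chkCl_spec cl_02).1, (chkCl_spec cl_02).2, (T_eq _).trans ty_02⟩

theorem cover1 (x : ℕ) (hx : X.com 1 x) : ∃ e ∈ ent 1, e.Q.testBit x = true := by
  obtain ⟨p, hp, hpx⟩ := peel_mem [(e10, 693), (e11, 2), (e12, 5632), (e13, 25344)] (q := fun p => p.1.Q) (s := fun p => p.2) rs_1 ((M_spec chkw_1 x).2 hx)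
  refine ⟨p.1, ?_, hpx⟩
  simp only [List.mem_cons, List.not_mem_nil, or_false] at hp
  unfold ent
  rcases hp with rfl | rfl | rfl | rfl <;> simp

theorem entQ1 (e : Ent) (he : e ∈ ent 1) (x : ℕ) (hx : e.Q.testBit x = true) :
    (∃ g ∈ X.K, X.ρ g 1 = 1 ∧ X.ρ g e.d = x) ∧ X.com 1 x ∧ X.cl 1 x = e.k := by
  unfold ent at he
  simp only [List.mem_cons, List.not_mem_nil, or_false] at he
  rcases he with rfl | rfl | rfl | rfl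
  · exact ⟨orbQ10 x hx, clQ10 x hx⟩
  · exact ⟨orbQ11 x hx, clQ11 x hx⟩
  · exact ⟨orbQ12 x hx, clQ12 x hx⟩
  · exact ⟨orbQ13 x hx, clQ13 x hx⟩

theorem entD1 (e : Ent) (he : e ∈ ent 1) : X.com 1 e.d ∧ X.cl 1 e.d = e.k ∧ X.T e.d = e.τ' := by
  unfold ent at he
  simp only [List.mem_cons, List.not_mem_nil, or_false] at he
  rcases he with rfl | rfl | rfl | rfl
  · exact ⟨(chkCl_spec cl_10).1, (chkCl_spec cl_10).2, (T_eq _).trans ty_10⟩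
  · exact ⟨(chkCl_spec cl_11).1, (chkCl_spec cl_11).2, (T_eq _).trans ty_11⟩
  · exact ⟨(chkCl_spec cl_12).1, (chkCl_spec cl_12).2, (T_eq _).trans ty_12⟩
  · exact ⟨(chkCl_spec cl_13).1, (chkCl_spec cl_13).2, (T_eq _).trans ty_13⟩

theorem cover2 (x : ℕ) (hx : X.com 8 x) : ∃ e ∈ ent 2, e.Q.testBit x = true := by
  obtain ⟨p, hp, hpx⟩ := peel_mem [(e20, 728), (e21, 1), (e22, 351), (e23, 25272), (e24, 3159), (e25, 2160)] (q := fun p => p.1.Q) (s := fun p => p.2) rs_2 ((M_spec chkw_2 x).2 hx)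
  refine ⟨p.1, ?_, hpx⟩
  simp only [List.mem_cons, List.not_mem_nil, or_false] at hp
  unfold ent
  rcases hp with rfl | rfl | rfl | rfl | rfl | rfl <;> simp

theorem entQ2 (e : Ent) (he : e ∈ ent 2) (x : ℕ) (hx : e.Q.testBit x = true) :
    (∃ g ∈ X.K, X.ρ g 8 = 8 ∧ X.ρ g e.d = x) ∧ X.com 8 x ∧ X.cl 8 x = e.k := by
  unfold ent at he
  simp only [List.mem_cons, List.not_mem_nil, or_false] at he
  rcases he with rfl | rfl | rfl | rfl | rfl | rfl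
  · exact ⟨orbQ20 x hx, clQ20 x hx⟩
  · exact ⟨orbQ21 x hx, clQ21 x hx⟩
  · exact ⟨orbQ22 x hx, clQ22 x hx⟩
  · exact ⟨orbQ23 x hx, clQ23 x hx⟩
  · exact ⟨orbQ24 x hx, clQ24 x hx⟩
  · exact ⟨orbQ25 x hx, clQ25 x hx⟩

theorem entD2 (e : Ent) (he : e ∈ ent 2) : X.com 8 e.d ∧ X.cl 8 e.d = e.k ∧ X.T e.d = e.τ' := by
  unfold ent at he
  simp only [List.mem_cons, List.not_mem_nil, or_false] at he
  rcases he with rfl | rfl | rfl | rfl | rfl | rfl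
  · exact ⟨(chkCl_spec cl_20).1, (chkCl_spec cl_20).2, (T_eq _).trans ty_20⟩
  · exact ⟨(chkCl_spec cl_21).1, (chkCl_spec cl_21).2, (T_eq _).trans ty_21⟩
  · exact ⟨(chkCl_spec cl_22).1, (chkCl_spec cl_22).2, (T_eq _).trans ty_22⟩
  · exact ⟨(chkCl_spec cl_23).1, (chkCl_spec cl_23).2, (T_eq _).trans ty_23⟩
  · exact ⟨(chkCl_spec cl_24).1, (chkCl_spec cl_24).2, (T_eq _).trans ty_24⟩
  · exact ⟨(chkCl_spec cl_25).1, (chkCl_spec cl_25).2, (T_eq _).trans ty_25⟩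

theorem cover3 (x : ℕ) (hx : X.com 307496 x) : ∃ e ∈ ent 3, e.Q.testBit x = true := by
  obtain ⟨p, hp, hpx⟩ := peel_mem [(e30, 1), (e31, 5760), (e32, 360), (e33, 3150), (e34, 22400)] (q := fun p => p.1.Q) (s := fun p => p.2) rs_3 ((M_spec chkw_3 x).2 hx)
  refine ⟨p.1, ?_, hpx⟩
  simp only [List.mem_cons, List.not_mem_nil, or_false] at hp
  unfold ent
  rcases hp with rfl | rfl | rfl | rfl | rfl <;> simp

theorem entQ3 (e : Ent) (he : e ∈ ent 3) (x : ℕ) (hx : e.Q.testBit x = true) :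
    (∃ g ∈ X.K, X.ρ g 307496 = 307496 ∧ X.ρ g e.d = x) ∧ X.com 307496 x ∧ X.cl 307496 x = e.k := by
  unfold ent at he
  simp only [List.mem_cons, List.not_mem_nil, or_false] at he
  rcases he with rfl | rfl | rfl | rfl | rfl
  · exact ⟨orbQ30 x hx, clQ30 x hx⟩
  · exact ⟨orbQ31 x hx, clQ31 x hx⟩
  · exact ⟨orbQ32 x hx, clQ32 x hx⟩
  · exact ⟨orbQ33 x hx, clQ33 x hx⟩
  · exact ⟨orbQ34 x hx, clQ34 x hx⟩

theorem entD3 (e : Ent) (he : e ∈ ent 3) : X.com 307496 e.d ∧ X.cl 307496 e.d = e.k ∧ X.T e.d = e.τ' := by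
  unfold ent at he
  simp only [List.mem_cons, List.not_mem_nil, or_false] at he
  rcases he with rfl | rfl | rfl | rfl | rfl
  · exact ⟨(chkCl_spec cl_30).1, (chkCl_spec cl_30).2, (T_eq _).trans ty_30⟩
  · exact ⟨(chkCl_spec cl_31).1, (chkCl_spec cl_31).2, (T_eq _).trans ty_31⟩
  · exact ⟨(chkCl_spec cl_32).1, (chkCl_spec cl_32).2, (T_eq _).trans ty_32⟩
  · exact ⟨(chkCl_spec cl_33).1, (chkCl_spec cl_33).2, (T_eq _).trans ty_33⟩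
  · exact ⟨(chkCl_spec cl_34).1, (chkCl_spec cl_34).2, (T_eq _).trans ty_34⟩

theorem tab_dec : ∀ τ < 4, ∀ e ∈ ent τ, ∀ τ₂ < 4, ∀ e₂ ∈ ent τ₂, e.k = e₂.k →
    (τ = τ₂ → e.d = e₂.d) ∧ (τ = τ₂ ∨ τ₂ = e.τ') := by
  decide +kernel

/-- **The orbits.** -/
theorem orbs : Orbs X X.cl X.T 4 cp ent where
  csymm := Ctx.cl_symm
  cinv _ hg x y := Ctx.cl_inv hg x y
  tinv _ hg x := Ctx.T_inv hg x
  rep _ hx := rep_mem hx
  cover τ hτ x hx := by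
    interval_cases τ
    · exact cover0 x hx
    · exact cover1 x hx
    · exact cover2 x hx
    · exact cover3 x hx
  orb τ hτ e he x hx := by
    interval_cases τ
    · exact (entQ0 e he x hx).1
    · exact (entQ1 e he x hx).1
    · exact (entQ2 e he x hx).1
    · exact (entQ3 e he x hx).1
  dcom τ hτ e he := by
    interval_cases τ
    · exact (entD0 e he).1
    · exact (entD1 e he).1
    · exact (entD2 e he).1
    · exact (entD3 e he).1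
  cl τ hτ e he := by
    interval_cases τ
    · exact (entD0 e he).2.1
    · exact (entD1 e he).2.1
    · exact (entD2 e he).2.1
    · exact (entD3 e he).2.1
  ty τ hτ e he := by
    interval_cases τ
    · exact (entD0 e he).2.2
    · exact (entD1 e he).2.2
    · exact (entD2 e he).2.2
    · exact (entD3 e he).2.2
  tyc τ hτ := by
    interval_cases τ
    · exact T_cp0
    · exact T_cp1
    · exact T_cp2
    · exact T_cp3
  tab := tab_dec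

end Cfsg.Agent.H30.FiE
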