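import Cfsg.Agent.H30.FiE.Ctx

/-!
# `Fi24` on the commuting pairs of transpositions: evaluation of the rows (helper30)
-/

set_option autoImplicit false
set_option maxRecDepth 100000

namespace Cfsg.Agent.H30.FiE

open Cfsg Cfsg.Agent.Lib.PermNet Cfsg.Agent.Lib.PermNetPt Cfsg.Agent.Lib.PermNetOrbit
open Cfsg.Agent.Fischer.Fi24RepDef Cfsg.Agent.Fischer.Fi24Rep
open Cfsg.Agent.Fischer.Fi24RepOrb (UG)
open Cfsg.Agent.Fischer.Fi24RepOrbData (UW)
open Cfsg.Spor (Fi24)
open Cfsg.Spor.Fi24 (Gen)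
open Cfsg.Agent.KFacts.FiTF.Pts
open Cfsg.Agent.KFacts.FiTF.FixMask (isPt_tr pn)
open Cfsg.Agent.KFacts.FiTF.Defs (tr)
open Cfsg.Agent.H30.PairFn (Ctx papply_inv pinv_apply)
open Cfsg.Agent.H30.PairFn.Ctx (IsFn KInv Orbs Ent hf rs s5 T cl n4)

attribute [local instance] Classical.propDecidable

/-! ### Words in the stabiliser -/

/-- the word fixes the points of the list -/
noncomputable def fixL (n : List Net) (cs : List ℕ) : Bool :=
  List.rec (motive := fun _ => Bool) true (fun c _ ih => and (chkPt n c c) ih) cs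

/-- the word is in the stabiliser of `{a, b}` and fixes the points of the list -/
noncomputable def inK (cs : List ℕ) (w : List Gen) : Bool :=
  and (or (and (chkPt (nw w false) 0 0) (chkPt (nw w false) 136 136))
    (and (chkPt (nw w false) 0 136) (chkPt (nw w false) 136 0))) (fixL (nw w false) cs)

/-- all the words -/
noncomputable def allK (cs : List ℕ) (ws : List (List Gen)) : Bool :=
  List.rec (motive := fun _ => Bool) true (fun w _ ih => and (inK cs w) ih) ws

theorem fixL_spec {w : List Gen} {cs : List ℕ} (h : fixL (nw w false) cs = true) : ∀ c ∈ cs, rho (word w) c = c := by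
  induction cs with
  | nil => intro c hc; exact absurd hc (by simp)
  | cons d cs ih =>
    have h' : and (chkPt (nw w false) d d) (fixL (nw w false) cs) = true := h
    rw [Bool.and_eq_true] at h'
    intro c hc
    rcases List.mem_cons.1 hc with rfl | hc
    · exact rho_of_chkPt h'.1
    · exact ih h'.2 c hc

/-- the stabiliser -/
noncomputable def St (cs : List ℕ) : Subgroup Fi24 := K ⊓ stabL rho cs

theorem mem_St {cs : List ℕ} {g : Fi24} : g ∈ St cs ↔ g ∈ K ∧ ∀ c ∈ cs, rho g c = c := Iff.rfl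

theorem inK_spec {cs : List ℕ} {w : List Gen} (h : inK cs w = true) : word w ∈ St cs := by
  unfold inK at h
  simp only [Bool.and_eq_true, Bool.or_eq_true] at h
  rw [mem_St]
  refine ⟨?_, fixL_spec h.2⟩
  rw [mem_K]
  rcases h.1 with h1 | h1
  · exact Or.inl ⟨rho_of_chkPt h1.1, rho_of_chkPt h1.2⟩
  · exact Or.inr ⟨rho_of_chkPt h1.1, rho_of_chkPt h1.2⟩

theorem allK_spec {cs : List ℕ} {ws : List (List Gen)} (h : allK cs ws = true) : ∀ w ∈ ws, word w ∈ St cs := by
  induction ws with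
  | nil => intro w hw; exact absurd hw (by simp)
  | cons v ws ih =>
    have h' : and (inK cs v) (allK cs ws) = true := h
    rw [Bool.and_eq_true] at h'
    intro w hw
    rcases List.mem_cons.1 hw with rfl | hw
    · exact inK_spec h'.1
    · exact ih h'.2 w hw

theorem orb_of {cs : List ℕ} {ws : List (List Gen)} (h : allK cs ws = true) {d x : ℕ}
    (hx : (sqp ws d).testBit x = true) : ∃ g ∈ K, (∀ c ∈ cs, rho g c = c) ∧ rho g d = x := by
  obtain ⟨g, hg, hgx⟩ := sqp_point (allK_spec h) hx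
  rw [mem_St] at hg
  exact ⟨g, hg.1, hg.2, hgx⟩

/-! ### Types and invariants -/

/-- the word for `b` -/
def wj : List Gen := [.k, .l, .a, .k, .b, .c, .a, .d, .b, .e, .c, .f, .d, .g, .e, .j, .f, .g]

theorem chk_wj : chkPt (nw wj false) 136 0 = true := by decide +kernel

theorem Mj_spec (x : ℕ) : (M wj).testBit x = true ↔ Com 136 x := M_spec chk_wj x

/-- the type of a point -/
noncomputable def tval (p : ℕ) : ℕ :=
  Bool.rec (Bool.rec (Bool.rec 3 2 (or (tb UW p) (tb (M wj) p))) 1 (and (tb UW p) (tb (M wj) p))) 0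
    (or (Nat.beq p 0) (Nat.beq p 136))

theorem T_eq (p : ℕ) : X.T p = tval p := by
  unfold T tval
  rw [tb_eq, tb_eq]
  have e1 : (UW.testBit p = true) = X.com X.a p := propext (UW_spec p)
  have e2 : ((M wj).testBit p = true) = X.com X.b p := propext (Mj_spec p)
  rw [← e1, ← e2]
  by_cases h0 : p = X.a ∨ p = X.b
  · rw [if_pos h0]
    have : (Nat.beq p 0 || Nat.beq p 136) = true := by
      rw [Bool.or_eq_true]
      rcases h0 with h | h
      · exact Or.inl (by rw [h]; rfl)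
      · exact Or.inr (by rw [h]; rfl)
    rw [this]
  · rw [if_neg h0]
    have : (Nat.beq p 0 || Nat.beq p 136) = false := by
      rw [Bool.eq_false_iff, Ne, Bool.or_eq_true]
      rintro (h | h)
      · exact h0 (Or.inl (Nat.eq_of_beq_eq_true h))
      · exact h0 (Or.inr (Nat.eq_of_beq_eq_true h))
    rw [this]
    cases hA : UW.testBit p <;> cases hB : (M wj).testBit p <;> simp

theorem lt_of_sub {m : ℕ} (h : ∀ x, m.testBit x = true → UG.testBit x = true) : m < 2 ^ 2 ^ 19 := by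
  refine Nat.lt_pow_two_of_testBit _ fun i hi => ?_
  by_contra hc
  rw [Bool.not_eq_false] at hc
  exact absurd (lt_of_bit (h i hc)) (not_lt.2 hi)

/-- the invariant of a pair -/
noncomputable def clval (p q : ℕ) (wp wq : List Gen) : ℕ :=
  Nat.add (pc 19 (Nat.land (Nat.land UW (M wj)) (Nat.land (M wp) (M wq)))) (Nat.mul 4000 (Nat.mul (tval p) (tval q)))

theorem n4_eq {p q : ℕ} {wp wq : List Gen} (hp : chkPt (nw wp false) p 0 = true)
    (hq : chkPt (nw wq false) q 0 = true) :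
    X.n4 p q = pc 19 (Nat.land (Nat.land UW (M wj)) (Nat.land (M wp) (M wq))) := by
  have h1 : ∀ z, (Nat.land (Nat.land UW (M wj)) (Nat.land (M wp) (M wq))).testBit z = true ↔
      (X.com X.a z ∧ X.com X.b z ∧ X.com p z ∧ X.com q z) := by
    intro z
    show ((UW &&& M wj) &&& (M wp &&& M wq)).testBit z = true ↔ _
    rw [Nat.testBit_and, Nat.testBit_and, Nat.testBit_and, Bool.and_eq_true, Bool.and_eq_true, Bool.and_eq_true,
      UW_spec, Mj_spec, M_spec hp, M_spec hq, and_assoc]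
    exact Iff.rfl
  rw [pc_eq 19 _ (lt_of_sub fun x hx => ((h1 x).1 hx).1.2.1)]
  unfold n4
  refine congrArg Finset.card ?_
  ext z
  rw [Finset.mem_filter, mem_bits, h1, mem_PT]
  constructor
  · rintro ⟨h2, h3⟩
    exact ⟨lt_of_bit h2, h3⟩
  · rintro ⟨-, h3⟩
    exact ⟨h3.1.2.1, h3⟩

theorem cl_eq {p q : ℕ} {wp wq : List Gen} (hp : chkPt (nw wp false) p 0 = true)
    (hq : chkPt (nw wq false) q 0 = true) : X.cl p q = clval p q wp wq := by
  unfold cl clval
  rw [T_eq, T_eq, Nat.add_eq, Nat.mul_eq, Nat.mul_eq, n4_eq hp hq]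

/-- check of a related pair -/
noncomputable def chkCl (p q : ℕ) (wp wq : List Gen) (k : ℕ) : Bool :=
  and (chkPt (nw wp false) p 0) (and (chkPt (nw wq false) q 0) (and (Nat.beq (clval p q wp wq) k) (tb (M wp) q)))

theorem chkCl_spec {p q : ℕ} {wp wq : List Gen} {k : ℕ} (h : chkCl p q wp wq k = true) :
    X.com p q ∧ X.cl p q = k := by
  unfold chkCl at h
  simp only [Bool.and_eq_true] at h
  obtain ⟨h1, h2, h3, h4⟩ := h
  rw [cl_eq h1 h2]
  rw [tb_eq, M_spec h1] at h4
  exact ⟨h4, Nat.eq_of_beq_eq_true h3⟩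

/-! ### The rows -/

theorem hf_row {ψ : ℕ → ℕ → ℂ} {β : ℕ → ℂ} (hβ : ∀ x y, X.com x y → ψ x y = β (X.cl x y)) {c d : ℕ}
    {wc wd : List Gen} (hc : chkPt (nw wc false) c 0 = true) (hd : chkPt (nw wd false) d 0 = true)
    (l : List (Ent × ℕ)) (hQ : ∀ p ∈ l, ∀ x, p.1.Q.testBit x = true → X.com c x ∧ X.cl c x = p.1.k)
    (h : peelB 19 (l.map fun p => (p.1.Q, p.2)) (Nat.land (M wc) (M wd)) = true) :
    X.hf ψ c d = (l.map fun p => (p.2 : ℂ) * β p.1.k).sum := by
  have h1 : ∀ z, (Nat.land (M wc) (M wd)).testBit z = true ↔ X.com c z ∧ X.com d z := by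
    intro z
    show (M wc &&& M wd).testBit z = true ↔ _
    rw [Nat.testBit_and, Bool.and_eq_true, M_spec hc, M_spec hd]
    exact Iff.rfl
  unfold hf
  have h2 : X.PT.filter (fun x => X.com c x ∧ X.com d x) = bits (2 ^ 19) (Nat.land (M wc) (M wd)) := by
    ext z
    rw [Finset.mem_filter, mem_bits, h1, mem_PT]
    constructor
    · rintro ⟨h2, h3⟩
      exact ⟨lt_of_bit h2, h3⟩
    · rintro ⟨-, h3⟩
      exact ⟨h3.1.2.1, h3⟩
  rw [h2]
  refine peel_sum l (q := fun p => p.1.Q) (s := fun p => p.2) (v := fun p => β p.1.k) ?_ ?_ h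
  · intro p hp x hx _
    obtain ⟨h3, h4⟩ := hQ p hp x hx
    rw [hβ c x h3, h4]
  · exact lt_of_sub fun x hx => ((h1 x).1 hx).1.2.1

theorem bits_M {c : ℕ} {wc : List Gen} (hc : chkPt (nw wc false) c 0 = true) :
    X.PT.filter (fun x => X.com c x) = bits (2 ^ 19) (M wc) := by
  ext z
  rw [Finset.mem_filter, mem_bits, M_spec hc, mem_PT]
  constructor
  · rintro ⟨h2, h3⟩
    exact ⟨lt_of_bit h2, h3⟩
  · rintro ⟨-, h3⟩
    exact ⟨h3.2.1, h3⟩

theorem M_row {F : ℕ → ℂ} {β : ℕ → ℂ} {c : ℕ} (hβ : ∀ x, X.com c x → F x = β (X.cl c x))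
    {wc : List Gen} (hc : chkPt (nw wc false) c 0 = true)
    (l : List (Ent × ℕ)) (hQ : ∀ p ∈ l, ∀ x, p.1.Q.testBit x = true → X.com c x ∧ X.cl c x = p.1.k)
    (h : peelB 19 (l.map fun p => (p.1.Q, p.2)) (M wc) = true) :
    ∑ x ∈ X.PT.filter (fun x => X.com c x), F x = (l.map fun p => (p.2 : ℂ) * β p.1.k).sum := by
  rw [bits_M hc]
  refine peel_sum l (q := fun p => p.1.Q) (s := fun p => p.2) (v := fun p => β p.1.k) ?_ ?_ h
  · intro p hp x hx _
    obtain ⟨h3, h4⟩ := hQ p hp x hx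
    rw [hβ x h3, h4]
  · exact lt_of_sub fun x hx => ((M_spec hc x).1 hx).2.1

/-- the mask of the points which are not related to `c` and `d` -/
noncomputable def m5 (c d : ℕ) (wc wd : List Gen) : ℕ :=
  Nat.xor UG (Nat.lor (Nat.lor (M wc) (M wd)) (Nat.lor (Nat.pow 2 c) (Nat.pow 2 d)))

theorem m5_spec {c d : ℕ} {wc wd : List Gen} (hc : chkPt (nw wc false) c 0 = true)
    (hd : chkPt (nw wd false) d 0 = true) (hcd : X.com c d) (z : ℕ) : (m5 c d wc wd).testBit z = true ↔
      UG.testBit z = true ∧ z ≠ c ∧ z ≠ d ∧ ¬ X.com c z ∧ ¬ X.com d z := by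
  show (UG ^^^ ((M wc ||| M wd) ||| (2 ^ c ||| 2 ^ d))).testBit z = true ↔ _
  rw [Nat.testBit_xor, Nat.testBit_or, Nat.testBit_or, Nat.testBit_or, Nat.testBit_two_pow, Nat.testBit_two_pow]
  have e1 : X.com c z ↔ (M wc).testBit z = true := (M_spec hc z).symm
  have e2 : X.com d z ↔ (M wd).testBit z = true := (M_spec hd z).symm
  rw [e1, e2]
  have f1 : (M wc).testBit z = true → UG.testBit z = true := fun h => (e1.2 h).2.1
  have f2 : (M wd).testBit z = true → UG.testBit z = true := fun h => (e2.2 h).2.1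
  have f3 : c = z → UG.testBit z = true := fun h => h ▸ hcd.1
  have f4 : d = z → UG.testBit z = true := fun h => h ▸ hcd.2.1
  by_cases hU : UG.testBit z = true
  · rw [hU, ne_comm, @ne_comm ℕ z d]
    by_cases a1 : (M wc).testBit z = true <;> by_cases a2 : (M wd).testBit z = true <;> by_cases a3 : c = z <;>
      by_cases a4 : d = z <;> simp [a1, a2, a3, a4]
  · have g1 : (M wc).testBit z = false := Bool.eq_false_iff.2 fun h => hU (f1 h)
    have g2 : (M wd).testBit z = false := Bool.eq_false_iff.2 fun h => hU (f2 h)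
    have g3 : c ≠ z := fun h => hU (f3 h)
    have g4 : d ≠ z := fun h => hU (f4 h)
    have g5 : UG.testBit z = false := Bool.eq_false_iff.2 hU
    simp [g1, g2, g3, g4, g5]

/-- an orbit in the generic part of a row: representative, image, words -/
structure SEnt where
  S : ℕ
  k : ℕ

theorem s5_row {ψ : ℕ → ℕ → ℂ} {β : ℕ → ℂ} (hβ : ∀ x y, X.com x y → ψ x y = β (X.cl x y)) {c d : ℕ}
    {wc wd : List Gen} (hc : chkPt (nw wc false) c 0 = true) (hd : chkPt (nw wd false) d 0 = true)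
    (hcd : X.com c d) (l : List (SEnt × ℕ)) (hS : ∀ p ∈ l, ∀ y, p.1.S.testBit y = true →
      X.com y (X.ρ (X.t d * X.t c) y) ∧ X.cl y (X.ρ (X.t d * X.t c) y) = p.1.k)
    (h : peelB 19 (l.map fun p => (p.1.S, p.2)) (m5 c d wc wd) = true) :
    X.s5 ψ c d = (l.map fun p => (p.2 : ℂ) * β p.1.k).sum := by
  have h1 := m5_spec hc hd hcd
  unfold s5
  have h2 : X.PT.filter (fun y => y ≠ c ∧ y ≠ d ∧ ¬ X.com c y ∧ ¬ X.com d y) = bits (2 ^ 19) (m5 c d wc wd) := by
    ext z
    rw [Finset.mem_filter, mem_bits, h1, mem_PT]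
    constructor
    · rintro ⟨h2, h3⟩
      exact ⟨lt_of_bit h2, h2, h3⟩
    · rintro ⟨-, h2, h3⟩
      exact ⟨h2, h3⟩
  rw [h2]
  refine peel_sum l (q := fun p => p.1.S) (s := fun p => p.2) (v := fun p => β p.1.k) ?_ ?_ h
  · intro p hp x hx _
    obtain ⟨h3, h4⟩ := hS p hp x hx
    rw [hβ _ _ h3, h4]
  · exact lt_of_sub fun x hx => ((h1 x).1 hx).1

/-- check of an orbit -/
noncomputable def chkS (c d : ℕ) (tc td : List Gen) (ws : List (List Gen)) (y z : ℕ) (wy wz : List Gen) (k : ℕ) : Bool :=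
  and (allK [c, d] ws) (and (chkPt (nw (td ++ tc) false) y z) (chkCl y z wy wz k))

theorem chkS_spec {c d : ℕ} {tc td : List Gen} {ws : List (List Gen)} {y z : ℕ} {wy wz : List Gen} {k : ℕ}
    (h : chkS c d tc td ws y z wy wz k = true) (hcd : X.com c d) (htc : tp c = word tc) (htd : tp d = word td) :
    ∀ x, (sqp ws y).testBit x = true →
      X.com x (X.ρ (X.t d * X.t c) x) ∧ X.cl x (X.ρ (X.t d * X.t c) x) = k := by
  unfold chkS at h
  rw [Bool.and_eq_true, Bool.and_eq_true] at h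
  obtain ⟨h1, h2, h3⟩ := h
  obtain ⟨h4, h5⟩ := chkCl_spec h3
  intro x hx
  obtain ⟨g, hg, hgc, hgx⟩ := orb_of h1 hx
  have e1 : rho (tp d * tp c) y = z := by
    rw [htc, htd, ← Cfsg.Agent.Fischer.Fi24Spider.word_append]
    exact rho_of_chkPt h2
  have c1 : g * tp c = tp c * g := by
    have h6 := tp_act g hcd.1
    rw [hgc c (by simp)] at h6
    calc g * tp c = (g * tp c * g⁻¹) * g := by group
      _ = tp c * g := by rw [← h6]
  have c2 : g * tp d = tp d * g := by
    have h6 := tp_act g hcd.2.1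
    rw [hgc d (by simp)] at h6
    calc g * tp d = (g * tp d * g⁻¹) * g := by group
      _ = tp d * g := by rw [← h6]
  have e2 : X.ρ (X.t d * X.t c) x = X.ρ g z := by
    show rho (tp d * tp c) x = rho g z
    rw [← hgx, ← e1, ← Equiv.Perm.mul_apply, ← Equiv.Perm.mul_apply, ← map_mul, ← map_mul]
    have : tp d * tp c * g = g * (tp d * tp c) := by
      rw [mul_assoc, ← c1, ← mul_assoc, ← c2, mul_assoc]
    rw [this]
  rw [e2, ← hgx]
  exact ⟨X.inv g h4, (Ctx.cl_inv (X := X) hg y z).trans h5⟩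

end Cfsg.Agent.H30.FiE
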