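import Cfsg.Agent.H30.FiE.Orb
import Cfsg.Agent.H30.FiE.ChkS0
import Cfsg.Agent.H30.FiE.ChkS3
import Cfsg.Agent.H30.FiE.ChkS7
import Cfsg.Agent.H30.FiE.ChkS10

/-!
# `Fi24` on the commuting pairs of transpositions: the rows of the operators (helper30). Generated.

* `A1_val` : the first operator;
* `CC_0`, `CC_3`, `CC_7`, `CC_10` : four rows of the class sum of the transpositions.
-/

set_option autoImplicit false
set_option maxRecDepth 100000
set_option linter.all false

namespace Cfsg.Agent.H30.FiE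

open Cfsg Cfsg.Agent.Lib.PermNet Cfsg.Agent.Lib.PermNetPt Cfsg.Agent.Lib.PermNetOrbit
open Cfsg.Agent.Fischer.Fi24RepDef Cfsg.Agent.Fischer.Fi24Rep
open Cfsg.Agent.Fischer.Fi24RepOrb (UG)
open Cfsg.Spor (Fi24)
open Cfsg.Spor.Fi24 (Gen)
open Cfsg.Agent.KFacts.FiTF.FixMask (isPt_tr pn)
open Cfsg.Agent.H30.PairFn (Ctx)
open Cfsg.Agent.H30.PairFn.Ctx (Ent Orbs IsFn KInv hf rs fn)

attribute [local instance] Classical.propDecidable

variable {ψ : ℕ → ℕ → ℂ} {β : ℕ → ℂ}

theorem chkw_c0 : chkPt (nw w0 false) 0 0 = true := chkw_0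

theorem rsF_0 {F : ℕ → ℂ} (hβ : ∀ x, X.com 0 x → F x = β (X.cl 0 x)) :
    ∑ x ∈ X.PT.filter (fun x => X.com 0 x), F x = 3510 * β 693 + 28160 * β 351 + 1 * β 3510 := by
  have h := M_row (F := F) (β := β) (c := 0) hβ chkw_0 [(e00, 3510), (e01, 28160), (e02, 1)] (by
    intro p hp x hx
    have hm : p.1 ∈ ent 0 := by
      simp only [List.mem_cons, List.not_mem_nil, or_false] at hp
      unfold ent
      rcases hp with rfl | rfl | rfl <;> simp
    exact (entQ0 p.1 hm x hx).2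
  ) rs_0
  rw [h]
  simp only [List.map_cons, List.map_nil, List.sum_cons, List.sum_nil, e00, e01, e02]
  push_cast
  ring

theorem rsv_0 (hβ : ∀ x y, X.com x y → ψ x y = β (X.cl x y)) : X.rs ψ 0 = 3510 * β 693 + 28160 * β 351 + 1 * β 3510 :=
  rsF_0 fun x hx => hβ _ _ hx

theorem hfv_00 (hβ : ∀ x y, X.com x y → ψ x y = β (X.cl x y)) : X.hf ψ 0 1 = 693 * β 693 + 2816 * β 351 + 1 * β 3510 := by
  have h := hf_row hβ (c := 0) (d := 1) chkw_0 chkw_1 [(e00, 693), (e01, 2816), (e02, 1)] (by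
    intro p hp x hx
    have hm : p.1 ∈ ent 0 := by
      simp only [List.mem_cons, List.not_mem_nil, or_false] at hp
      unfold ent
      rcases hp with rfl | rfl | rfl <;> simp
    exact (entQ0 p.1 hm x hx).2
  ) hf_00
  rw [h]
  simp only [List.map_cons, List.map_nil, List.sum_cons, List.sum_nil, e00, e01, e02]
  push_cast
  ring

theorem hfv_01 (hβ : ∀ x y, X.com x y → ψ x y = β (X.cl x y)) : X.hf ψ 0 3240 = 351 * β 693 + 3159 * β 351 := by
  have h := hf_row hβ (c := 0) (d := 3240) chkw_0 chkd_01 [(e00, 351), (e01, 3159)] (by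
    intro p hp x hx
    have hm : p.1 ∈ ent 0 := by
      simp only [List.mem_cons, List.not_mem_nil, or_false] at hp
      unfold ent
      rcases hp with rfl | rfl <;> simp
    exact (entQ0 p.1 hm x hx).2
  ) hf_01
  rw [h]
  simp only [List.map_cons, List.map_nil, List.sum_cons, List.sum_nil, e00, e01]
  push_cast
  ring

theorem hfv_02 (hβ : ∀ x y, X.com x y → ψ x y = β (X.cl x y)) : X.hf ψ 0 136 = 3510 * β 693 := by
  have h := hf_row hβ (c := 0) (d := 136) chkw_0 chkd_02 [(e00, 3510)] (by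
    intro p hp x hx
    have hm : p.1 ∈ ent 0 := by
      simp only [List.mem_cons, List.not_mem_nil, or_false] at hp
      unfold ent
      rcases hp with rfl <;> simp
    exact (entQ0 p.1 hm x hx).2
  ) hf_02
  rw [h]
  simp only [List.map_cons, List.map_nil, List.sum_cons, List.sum_nil, e00]
  push_cast
  ring

theorem rsF_1 {F : ℕ → ℂ} (hβ : ∀ x, X.com 1 x → F x = β (X.cl 1 x)) :
    ∑ x ∈ X.PT.filter (fun x => X.com 1 x), F x = 693 * β 4180 + 2 * β 693 + 5632 * β 8126 + 25344 * β 12063 := by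
  have h := M_row (F := F) (β := β) (c := 1) hβ chkw_1 [(e10, 693), (e11, 2), (e12, 5632), (e13, 25344)] (by
    intro p hp x hx
    have hm : p.1 ∈ ent 1 := by
      simp only [List.mem_cons, List.not_mem_nil, or_false] at hp
      unfold ent
      rcases hp with rfl | rfl | rfl | rfl <;> simp
    exact (entQ1 p.1 hm x hx).2
  ) rs_1
  rw [h]
  simp only [List.map_cons, List.map_nil, List.sum_cons, List.sum_nil, e10, e11, e12, e13]
  push_cast
  ring

theorem rsv_1 (hβ : ∀ x y, X.com x y → ψ x y = β (X.cl x y)) : X.rs ψ 1 = 693 * β 4180 + 2 * β 693 + 5632 * β 8126 + 25344 * β 12063 :=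
  rsF_1 fun x hx => hβ _ _ hx

theorem hfv_10 (hβ : ∀ x y, X.com x y → ψ x y = β (X.cl x y)) : X.hf ψ 1 4 = 180 * β 4180 + 2 * β 693 + 1024 * β 8126 + 2304 * β 12063 := by
  have h := hf_row hβ (c := 1) (d := 4) chkw_1 chkd_10 [(e10, 180), (e11, 2), (e12, 1024), (e13, 2304)] (by
    intro p hp x hx
    have hm : p.1 ∈ ent 1 := by
      simp only [List.mem_cons, List.not_mem_nil, or_false] at hp
      unfold ent
      rcases hp with rfl | rfl | rfl | rfl <;> simp
    exact (entQ1 p.1 hm x hx).2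
  ) hf_10
  rw [h]
  simp only [List.map_cons, List.map_nil, List.sum_cons, List.sum_nil, e10, e11, e12, e13]
  push_cast
  ring

theorem hfv_11 (hβ : ∀ x y, X.com x y → ψ x y = β (X.cl x y)) : X.hf ψ 1 0 = 693 * β 4180 + 1 * β 693 + 2816 * β 8126 := by
  have h := hf_row hβ (c := 1) (d := 0) chkw_1 chkw_0 [(e10, 693), (e11, 1), (e12, 2816)] (by
    intro p hp x hx
    have hm : p.1 ∈ ent 1 := by
      simp only [List.mem_cons, List.not_mem_nil, or_false] at hp
      unfold ent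
      rcases hp with rfl | rfl | rfl <;> simp
    exact (entQ1 p.1 hm x hx).2
  ) hf_11
  rw [h]
  simp only [List.map_cons, List.map_nil, List.sum_cons, List.sum_nil, e10, e11, e12]
  push_cast
  ring

theorem hfv_12 (hβ : ∀ x y, X.com x y → ψ x y = β (X.cl x y)) : X.hf ψ 1 307968 = 126 * β 4180 + 1 * β 693 + 791 * β 8126 + 2592 * β 12063 := by
  have h := hf_row hβ (c := 1) (d := 307968) chkw_1 chkd_12 [(e10, 126), (e11, 1), (e12, 791), (e13, 2592)] (by
    intro p hp x hx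
    have hm : p.1 ∈ ent 1 := by
      simp only [List.mem_cons, List.not_mem_nil, or_false] at hp
      unfold ent
      rcases hp with rfl | rfl | rfl | rfl <;> simp
    exact (entQ1 p.1 hm x hx).2
  ) hf_12
  rw [h]
  simp only [List.map_cons, List.map_nil, List.sum_cons, List.sum_nil, e10, e11, e12, e13]
  push_cast
  ring

theorem hfv_13 (hβ : ∀ x y, X.com x y → ψ x y = β (X.cl x y)) : X.hf ψ 1 307464 = 63 * β 4180 + 576 * β 8126 + 2871 * β 12063 := by
  have h := hf_row hβ (c := 1) (d := 307464) chkw_1 chkd_13 [(e10, 63), (e12, 576), (e13, 2871)] (by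
    intro p hp x hx
    have hm : p.1 ∈ ent 1 := by
      simp only [List.mem_cons, List.not_mem_nil, or_false] at hp
      unfold ent
      rcases hp with rfl | rfl | rfl <;> simp
    exact (entQ1 p.1 hm x hx).2
  ) hf_13
  rw [h]
  simp only [List.map_cons, List.map_nil, List.sum_cons, List.sum_nil, e10, e12, e13]
  push_cast
  ring

theorem rsF_2 {F : ℕ → ℂ} (hβ : ∀ x, X.com 8 x → F x = β (X.cl 8 x)) :
    ∑ x ∈ X.PT.filter (fun x => X.com 8 x), F x = 728 * β 16108 + 1 * β 351 + 351 * β 8126 + 25272 * β 24036 + 3159 * β 16063 + 2160 * β 16000 := by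
  have h := M_row (F := F) (β := β) (c := 8) hβ chkw_2 [(e20, 728), (e21, 1), (e22, 351), (e23, 25272), (e24, 3159), (e25, 2160)] (by
    intro p hp x hx
    have hm : p.1 ∈ ent 2 := by
      simp only [List.mem_cons, List.not_mem_nil, or_false] at hp
      unfold ent
      rcases hp with rfl | rfl | rfl | rfl | rfl | rfl <;> simp
    exact (entQ2 p.1 hm x hx).2
  ) rs_2
  rw [h]
  simp only [List.map_cons, List.map_nil, List.sum_cons, List.sum_nil, e20, e21, e22, e23, e24, e25]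
  push_cast
  ring

theorem rsv_2 (hβ : ∀ x y, X.com x y → ψ x y = β (X.cl x y)) : X.rs ψ 8 = 728 * β 16108 + 1 * β 351 + 351 * β 8126 + 25272 * β 24036 + 3159 * β 16063 + 2160 * β 16000 :=
  rsF_2 fun x hx => hβ _ _ hx

theorem hfv_20 (hβ : ∀ x y, X.com x y → ψ x y = β (X.cl x y)) : X.hf ψ 8 307872 = 243 * β 16108 + 108 * β 8126 + 2916 * β 24036 + 243 * β 16063 := by
  have h := hf_row hβ (c := 8) (d := 307872) chkw_2 chkd_20 [(e20, 243), (e22, 108), (e23, 2916), (e24, 243)] (by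
    intro p hp x hx
    have hm : p.1 ∈ ent 2 := by
      simp only [List.mem_cons, List.not_mem_nil, or_false] at hp
      unfold ent
      rcases hp with rfl | rfl | rfl | rfl <;> simp
    exact (entQ2 p.1 hm x hx).2
  ) hf_20
  rw [h]
  simp only [List.map_cons, List.map_nil, List.sum_cons, List.sum_nil, e20, e22, e23, e24]
  push_cast
  ring

theorem hfv_21 (hβ : ∀ x y, X.com x y → ψ x y = β (X.cl x y)) : X.hf ψ 8 0 = 351 * β 8126 + 3159 * β 16063 := by
  have h := hf_row hβ (c := 8) (d := 0) chkw_2 chkw_0 [(e22, 351), (e24, 3159)] (by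
    intro p hp x hx
    have hm : p.1 ∈ ent 2 := by
      simp only [List.mem_cons, List.not_mem_nil, or_false] at hp
      unfold ent
      rcases hp with rfl | rfl <;> simp
    exact (entQ2 p.1 hm x hx).2
  ) hf_21
  rw [h]
  simp only [List.map_cons, List.map_nil, List.sum_cons, List.sum_nil, e22, e24]
  push_cast
  ring

theorem hfv_22 (hβ : ∀ x y, X.com x y → ψ x y = β (X.cl x y)) : X.hf ψ 8 1 = 224 * β 16108 + 1 * β 351 + 126 * β 8126 + 2592 * β 24036 + 567 * β 16063 := by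
  have h := hf_row hβ (c := 8) (d := 1) chkw_2 chkw_1 [(e20, 224), (e21, 1), (e22, 126), (e23, 2592), (e24, 567)] (by
    intro p hp x hx
    have hm : p.1 ∈ ent 2 := by
      simp only [List.mem_cons, List.not_mem_nil, or_false] at hp
      unfold ent
      rcases hp with rfl | rfl | rfl | rfl | rfl <;> simp
    exact (entQ2 p.1 hm x hx).2
  ) hf_22
  rw [h]
  simp only [List.map_cons, List.map_nil, List.sum_cons, List.sum_nil, e20, e21, e22, e23, e24]
  push_cast
  ring

theorem hfv_23 (hβ : ∀ x y, X.com x y → ψ x y = β (X.cl x y)) : X.hf ψ 8 308352 = 84 * β 16108 + 36 * β 8126 + 2835 * β 24036 + 315 * β 16063 + 240 * β 16000 := by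
  have h := hf_row hβ (c := 8) (d := 308352) chkw_2 chkd_23 [(e20, 84), (e22, 36), (e23, 2835), (e24, 315), (e25, 240)] (by
    intro p hp x hx
    have hm : p.1 ∈ ent 2 := by
      simp only [List.mem_cons, List.not_mem_nil, or_false] at hp
      unfold ent
      rcases hp with rfl | rfl | rfl | rfl | rfl <;> simp
    exact (entQ2 p.1 hm x hx).2
  ) hf_23
  rw [h]
  simp only [List.map_cons, List.map_nil, List.sum_cons, List.sum_nil, e20, e22, e23, e24, e25]
  push_cast
  ring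

theorem hfv_24 (hβ : ∀ x y, X.com x y → ψ x y = β (X.cl x y)) : X.hf ψ 8 768 = 56 * β 16108 + 1 * β 351 + 63 * β 8126 + 2520 * β 24036 + 630 * β 16063 + 240 * β 16000 := by
  have h := hf_row hβ (c := 8) (d := 768) chkw_2 chkd_24 [(e20, 56), (e21, 1), (e22, 63), (e23, 2520), (e24, 630), (e25, 240)] (by
    intro p hp x hx
    have hm : p.1 ∈ ent 2 := by
      simp only [List.mem_cons, List.not_mem_nil, or_false] at hp
      unfold ent
      rcases hp with rfl | rfl | rfl | rfl | rfl | rfl <;> simp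
    exact (entQ2 p.1 hm x hx).2
  ) hf_24
  rw [h]
  simp only [List.map_cons, List.map_nil, List.sum_cons, List.sum_nil, e20, e21, e22, e23, e24, e25]
  push_cast
  ring

theorem hfv_25 (hβ : ∀ x y, X.com x y → ψ x y = β (X.cl x y)) : X.hf ψ 8 296072 = 2808 * β 24036 + 351 * β 16063 + 351 * β 16000 := by
  have h := hf_row hβ (c := 8) (d := 296072) chkw_2 chkd_25 [(e23, 2808), (e24, 351), (e25, 351)] (by
    intro p hp x hx
    have hm : p.1 ∈ ent 2 := by
      simp only [List.mem_cons, List.not_mem_nil, or_false] at hp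
      unfold ent
      rcases hp with rfl | rfl | rfl <;> simp
    exact (entQ2 p.1 hm x hx).2
  ) hf_25
  rw [h]
  simp only [List.map_cons, List.map_nil, List.sum_cons, List.sum_nil, e23, e24, e25]
  push_cast
  ring

theorem rsF_3 {F : ℕ → ℂ} (hβ : ∀ x, X.com 307496 x → F x = β (X.cl 307496 x)) :
    ∑ x ∈ X.PT.filter (fun x => X.com 307496 x), F x = 1 * β 36360 + 5760 * β 24036 + 360 * β 12063 + 3150 * β 36072 + 22400 * β 36036 := by
  have h := M_row (F := F) (β := β) (c := 307496) hβ chkw_3 [(e30, 1), (e31, 5760), (e32, 360), (e33, 3150), (e34, 22400)] (by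
    intro p hp x hx
    have hm : p.1 ∈ ent 3 := by
      simp only [List.mem_cons, List.not_mem_nil, or_false] at hp
      unfold ent
      rcases hp with rfl | rfl | rfl | rfl | rfl <;> simp
    exact (entQ3 p.1 hm x hx).2
  ) rs_3
  rw [h]
  simp only [List.map_cons, List.map_nil, List.sum_cons, List.sum_nil, e30, e31, e32, e33, e34]
  push_cast
  ring

theorem rsv_3 (hβ : ∀ x y, X.com x y → ψ x y = β (X.cl x y)) : X.rs ψ 307496 = 1 * β 36360 + 5760 * β 24036 + 360 * β 12063 + 3150 * β 36072 + 22400 * β 36036 :=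
  rsF_3 fun x hx => hβ _ _ hx

theorem hfv_30 (hβ : ∀ x y, X.com x y → ψ x y = β (X.cl x y)) : X.hf ψ 307496 308352 = 360 * β 12063 + 3150 * β 36072 := by
  have h := hf_row hβ (c := 307496) (d := 308352) chkw_3 chkd_30 [(e32, 360), (e33, 3150)] (by
    intro p hp x hx
    have hm : p.1 ∈ ent 3 := by
      simp only [List.mem_cons, List.not_mem_nil, or_false] at hp
      unfold ent
      rcases hp with rfl | rfl <;> simp
    exact (entQ3 p.1 hm x hx).2
  ) hf_30
  rw [h]
  simp only [List.map_cons, List.map_nil, List.sum_cons, List.sum_nil, e32, e33]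
  push_cast
  ring

theorem hfv_31 (hβ : ∀ x y, X.com x y → ψ x y = β (X.cl x y)) : X.hf ψ 307496 307840 = 639 * β 24036 + 36 * β 12063 + 315 * β 36072 + 2520 * β 36036 := by
  have h := hf_row hβ (c := 307496) (d := 307840) chkw_3 chkd_31 [(e31, 639), (e32, 36), (e33, 315), (e34, 2520)] (by
    intro p hp x hx
    have hm : p.1 ∈ ent 3 := by
      simp only [List.mem_cons, List.not_mem_nil, or_false] at hp
      unfold ent
      rcases hp with rfl | rfl | rfl | rfl <;> simp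
    exact (entQ3 p.1 hm x hx).2
  ) hf_31
  rw [h]
  simp only [List.map_cons, List.map_nil, List.sum_cons, List.sum_nil, e31, e32, e33, e34]
  push_cast
  ring

theorem hfv_32 (hβ : ∀ x y, X.com x y → ψ x y = β (X.cl x y)) : X.hf ψ 307496 1 = 1 * β 36360 + 576 * β 24036 + 63 * β 12063 + 630 * β 36072 + 2240 * β 36036 := by
  have h := hf_row hβ (c := 307496) (d := 1) chkw_3 chkw_1 [(e30, 1), (e31, 576), (e32, 63), (e33, 630), (e34, 2240)] (by
    intro p hp x hx
    have hm : p.1 ∈ ent 3 := by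
      simp only [List.mem_cons, List.not_mem_nil, or_false] at hp
      unfold ent
      rcases hp with rfl | rfl | rfl | rfl | rfl <;> simp
    exact (entQ3 p.1 hm x hx).2
  ) hf_32
  rw [h]
  simp only [List.map_cons, List.map_nil, List.sum_cons, List.sum_nil, e30, e31, e32, e33, e34]
  push_cast
  ring

theorem hfv_33 (hβ : ∀ x y, X.com x y → ψ x y = β (X.cl x y)) : X.hf ψ 307496 307480 = 1 * β 36360 + 576 * β 24036 + 72 * β 12063 + 621 * β 36072 + 2240 * β 36036 := by
  have h := hf_row hβ (c := 307496) (d := 307480) chkw_3 chkd_33 [(e30, 1), (e31, 576), (e32, 72), (e33, 621), (e34, 2240)] (by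
    intro p hp x hx
    have hm : p.1 ∈ ent 3 := by
      simp only [List.mem_cons, List.not_mem_nil, or_false] at hp
      unfold ent
      rcases hp with rfl | rfl | rfl | rfl | rfl <;> simp
    exact (entQ3 p.1 hm x hx).2
  ) hf_33
  rw [h]
  simp only [List.map_cons, List.map_nil, List.sum_cons, List.sum_nil, e30, e31, e32, e33, e34]
  push_cast
  ring

theorem hfv_34 (hβ : ∀ x y, X.com x y → ψ x y = β (X.cl x y)) : X.hf ψ 307496 266040 = 648 * β 24036 + 36 * β 12063 + 315 * β 36072 + 2511 * β 36036 := by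
  have h := hf_row hβ (c := 307496) (d := 266040) chkw_3 chkd_34 [(e31, 648), (e32, 36), (e33, 315), (e34, 2511)] (by
    intro p hp x hx
    have hm : p.1 ∈ ent 3 := by
      simp only [List.mem_cons, List.not_mem_nil, or_false] at hp
      unfold ent
      rcases hp with rfl | rfl | rfl | rfl <;> simp
    exact (entQ3 p.1 hm x hx).2
  ) hf_34
  rw [h]
  simp only [List.map_cons, List.map_nil, List.sum_cons, List.sum_nil, e31, e32, e33, e34]
  push_cast
  ring

/-- the rows of the first operator -/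
noncomputable def rowA (β : ℕ → ℂ) (k : ℕ) : ℂ :=
  if k = 3510 then 7020 * β 693 else
  if k = 693 then 1 * β 3510 + 694 * β 693 + 2816 * β 351 + 693 * β 4180 + 2816 * β 8126 else
  if k = 351 then 351 * β 693 + 3159 * β 351 + 351 * β 8126 + 3159 * β 16063 else
  if k = 4180 then 4 * β 693 + 360 * β 4180 + 2048 * β 8126 + 4608 * β 12063 else
  if k = 8126 then 1 * β 693 + 1 * β 351 + 126 * β 4180 + 917 * β 8126 + 2592 * β 12063 + 567 * β 16063 + 224 * β 16108 + 2592 * β 24036 else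
  if k = 12063 then 63 * β 4180 + 576 * β 8126 + 2934 * β 12063 + 576 * β 24036 + 1 * β 36360 + 630 * β 36072 + 2240 * β 36036 else
  if k = 16063 then 2 * β 351 + 126 * β 8126 + 1260 * β 16063 + 112 * β 16108 + 480 * β 16000 + 5040 * β 24036 else
  if k = 16108 then 216 * β 8126 + 486 * β 16063 + 486 * β 16108 + 5832 * β 24036 else
  if k = 16000 then 702 * β 16063 + 702 * β 16000 + 5616 * β 24036 else
  if k = 24036 then 36 * β 8126 + 36 * β 12063 + 315 * β 16063 + 84 * β 16108 + 240 * β 16000 + 3474 * β 24036 + 315 * β 36072 + 2520 * β 36036 else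
  if k = 36360 then 720 * β 12063 + 6300 * β 36072 else
  if k = 36072 then 144 * β 12063 + 1152 * β 24036 + 2 * β 36360 + 1242 * β 36072 + 4480 * β 36036 else
  if k = 36036 then 72 * β 12063 + 1296 * β 24036 + 630 * β 36072 + 5022 * β 36036 else
  0

theorem rowA_3510 : rowA β 3510 = 7020 * β 693 := by
  unfold rowA
  norm_num only [if_true, if_false]

theorem rowA_693 : rowA β 693 = 1 * β 3510 + 694 * β 693 + 2816 * β 351 + 693 * β 4180 + 2816 * β 8126 := by
  unfold rowA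
  norm_num only [if_true, if_false]

theorem rowA_351 : rowA β 351 = 351 * β 693 + 3159 * β 351 + 351 * β 8126 + 3159 * β 16063 := by
  unfold rowA
  norm_num only [if_true, if_false]

theorem rowA_4180 : rowA β 4180 = 4 * β 693 + 360 * β 4180 + 2048 * β 8126 + 4608 * β 12063 := by
  unfold rowA
  norm_num only [if_true, if_false]

theorem rowA_8126 : rowA β 8126 = 1 * β 693 + 1 * β 351 + 126 * β 4180 + 917 * β 8126 + 2592 * β 12063 + 567 * β 16063 + 224 * β 16108 + 2592 * β 24036 := by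
  unfold rowA
  norm_num only [if_true, if_false]

theorem rowA_12063 : rowA β 12063 = 63 * β 4180 + 576 * β 8126 + 2934 * β 12063 + 576 * β 24036 + 1 * β 36360 + 630 * β 36072 + 2240 * β 36036 := by
  unfold rowA
  norm_num only [if_true, if_false]

theorem rowA_16063 : rowA β 16063 = 2 * β 351 + 126 * β 8126 + 1260 * β 16063 + 112 * β 16108 + 480 * β 16000 + 5040 * β 24036 := by
  unfold rowA
  norm_num only [if_true, if_false]

theorem rowA_16108 : rowA β 16108 = 216 * β 8126 + 486 * β 16063 + 486 * β 16108 + 5832 * β 24036 := by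
  unfold rowA
  norm_num only [if_true, if_false]

theorem rowA_16000 : rowA β 16000 = 702 * β 16063 + 702 * β 16000 + 5616 * β 24036 := by
  unfold rowA
  norm_num only [if_true, if_false]

theorem rowA_24036 : rowA β 24036 = 36 * β 8126 + 36 * β 12063 + 315 * β 16063 + 84 * β 16108 + 240 * β 16000 + 3474 * β 24036 + 315 * β 36072 + 2520 * β 36036 := by
  unfold rowA
  norm_num only [if_true, if_false]

theorem rowA_36360 : rowA β 36360 = 720 * β 12063 + 6300 * β 36072 := by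
  unfold rowA
  norm_num only [if_true, if_false]

theorem rowA_36072 : rowA β 36072 = 144 * β 12063 + 1152 * β 24036 + 2 * β 36360 + 1242 * β 36072 + 4480 * β 36036 := by
  unfold rowA
  norm_num only [if_true, if_false]

theorem rowA_36036 : rowA β 36036 = 72 * β 12063 + 1296 * β 24036 + 630 * β 36072 + 5022 * β 36036 := by
  unfold rowA
  norm_num only [if_true, if_false]

theorem A1v_00 (hK : X.KInv ψ) (hβ : ∀ x y, X.com x y → ψ x y = β (X.cl x y)) : X.A1 ψ 0 1 = rowA β 693 := by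
  have h1 : X.hf ψ 1 0 = X.hf ψ 1 0 := orbs.rev hK.hf (τ := 0) (by norm_num) (e := e00) (e' := e11)
    (by unfold ent; simp) (by show e11 ∈ ent 1; unfold ent; simp) rfl
  show X.hf ψ 0 1 + X.hf ψ 1 0 = _
  rw [h1, hfv_00 hβ, hfv_11 hβ, rowA_693]
  ring

theorem A1v_01 (hK : X.KInv ψ) (hβ : ∀ x y, X.com x y → ψ x y = β (X.cl x y)) : X.A1 ψ 0 3240 = rowA β 351 := by
  have h1 : X.hf ψ 3240 0 = X.hf ψ 8 0 := orbs.rev hK.hf (τ := 0) (by norm_num) (e := e01) (e' := e21)
    (by unfold ent; simp) (by show e21 ∈ ent 2; unfold ent; simp) rfl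
  show X.hf ψ 0 3240 + X.hf ψ 3240 0 = _
  rw [h1, hfv_01 hβ, hfv_21 hβ, rowA_351]
  ring

theorem A1v_02 (hK : X.KInv ψ) (hβ : ∀ x y, X.com x y → ψ x y = β (X.cl x y)) : X.A1 ψ 0 136 = rowA β 3510 := by
  have h1 : X.hf ψ 136 0 = X.hf ψ 0 136 := orbs.rev hK.hf (τ := 0) (by norm_num) (e := e02) (e' := e02)
    (by unfold ent; simp) (by show e02 ∈ ent 0; unfold ent; simp) rfl
  show X.hf ψ 0 136 + X.hf ψ 136 0 = _
  rw [h1, hfv_02 hβ, rowA_3510]
  ring

theorem A1v_10 (hK : X.KInv ψ) (hβ : ∀ x y, X.com x y → ψ x y = β (X.cl x y)) : X.A1 ψ 1 4 = rowA β 4180 := by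
  have h1 : X.hf ψ 4 1 = X.hf ψ 1 4 := orbs.rev hK.hf (τ := 1) (by norm_num) (e := e10) (e' := e10)
    (by unfold ent; simp) (by show e10 ∈ ent 1; unfold ent; simp) rfl
  show X.hf ψ 1 4 + X.hf ψ 4 1 = _
  rw [h1, hfv_10 hβ, rowA_4180]
  ring

theorem A1v_11 (hK : X.KInv ψ) (hβ : ∀ x y, X.com x y → ψ x y = β (X.cl x y)) : X.A1 ψ 1 0 = rowA β 693 := by
  have h1 : X.hf ψ 0 1 = X.hf ψ 0 1 := orbs.rev hK.hf (τ := 1) (by norm_num) (e := e11) (e' := e00)
    (by unfold ent; simp) (by show e00 ∈ ent 0; unfold ent; simp) rfl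
  show X.hf ψ 1 0 + X.hf ψ 0 1 = _
  rw [h1, hfv_11 hβ, hfv_00 hβ, rowA_693]
  ring

theorem A1v_12 (hK : X.KInv ψ) (hβ : ∀ x y, X.com x y → ψ x y = β (X.cl x y)) : X.A1 ψ 1 307968 = rowA β 8126 := by
  have h1 : X.hf ψ 307968 1 = X.hf ψ 8 1 := orbs.rev hK.hf (τ := 1) (by norm_num) (e := e12) (e' := e22)
    (by unfold ent; simp) (by show e22 ∈ ent 2; unfold ent; simp) rfl
  show X.hf ψ 1 307968 + X.hf ψ 307968 1 = _
  rw [h1, hfv_12 hβ, hfv_22 hβ, rowA_8126]
  ring

theorem A1v_13 (hK : X.KInv ψ) (hβ : ∀ x y, X.com x y → ψ x y = β (X.cl x y)) : X.A1 ψ 1 307464 = rowA β 12063 := by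
  have h1 : X.hf ψ 307464 1 = X.hf ψ 307496 1 := orbs.rev hK.hf (τ := 1) (by norm_num) (e := e13) (e' := e32)
    (by unfold ent; simp) (by show e32 ∈ ent 3; unfold ent; simp) rfl
  show X.hf ψ 1 307464 + X.hf ψ 307464 1 = _
  rw [h1, hfv_13 hβ, hfv_32 hβ, rowA_12063]
  ring

theorem A1v_20 (hK : X.KInv ψ) (hβ : ∀ x y, X.com x y → ψ x y = β (X.cl x y)) : X.A1 ψ 8 307872 = rowA β 16108 := by
  have h1 : X.hf ψ 307872 8 = X.hf ψ 8 307872 := orbs.rev hK.hf (τ := 2) (by norm_num) (e := e20) (e' := e20)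
    (by unfold ent; simp) (by show e20 ∈ ent 2; unfold ent; simp) rfl
  show X.hf ψ 8 307872 + X.hf ψ 307872 8 = _
  rw [h1, hfv_20 hβ, rowA_16108]
  ring

theorem A1v_21 (hK : X.KInv ψ) (hβ : ∀ x y, X.com x y → ψ x y = β (X.cl x y)) : X.A1 ψ 8 0 = rowA β 351 := by
  have h1 : X.hf ψ 0 8 = X.hf ψ 0 3240 := orbs.rev hK.hf (τ := 2) (by norm_num) (e := e21) (e' := e01)
    (by unfold ent; simp) (by show e01 ∈ ent 0; unfold ent; simp) rfl
  show X.hf ψ 8 0 + X.hf ψ 0 8 = _
  rw [h1, hfv_21 hβ, hfv_01 hβ, rowA_351]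
  ring

theorem A1v_22 (hK : X.KInv ψ) (hβ : ∀ x y, X.com x y → ψ x y = β (X.cl x y)) : X.A1 ψ 8 1 = rowA β 8126 := by
  have h1 : X.hf ψ 1 8 = X.hf ψ 1 307968 := orbs.rev hK.hf (τ := 2) (by norm_num) (e := e22) (e' := e12)
    (by unfold ent; simp) (by show e12 ∈ ent 1; unfold ent; simp) rfl
  show X.hf ψ 8 1 + X.hf ψ 1 8 = _
  rw [h1, hfv_22 hβ, hfv_12 hβ, rowA_8126]
  ring

theorem A1v_23 (hK : X.KInv ψ) (hβ : ∀ x y, X.com x y → ψ x y = β (X.cl x y)) : X.A1 ψ 8 308352 = rowA β 24036 := by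
  have h1 : X.hf ψ 308352 8 = X.hf ψ 307496 307840 := orbs.rev hK.hf (τ := 2) (by norm_num) (e := e23) (e' := e31)
    (by unfold ent; simp) (by show e31 ∈ ent 3; unfold ent; simp) rfl
  show X.hf ψ 8 308352 + X.hf ψ 308352 8 = _
  rw [h1, hfv_23 hβ, hfv_31 hβ, rowA_24036]
  ring

theorem A1v_24 (hK : X.KInv ψ) (hβ : ∀ x y, X.com x y → ψ x y = β (X.cl x y)) : X.A1 ψ 8 768 = rowA β 16063 := by
  have h1 : X.hf ψ 768 8 = X.hf ψ 8 768 := orbs.rev hK.hf (τ := 2) (by norm_num) (e := e24) (e' := e24)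
    (by unfold ent; simp) (by show e24 ∈ ent 2; unfold ent; simp) rfl
  show X.hf ψ 8 768 + X.hf ψ 768 8 = _
  rw [h1, hfv_24 hβ, rowA_16063]
  ring

theorem A1v_25 (hK : X.KInv ψ) (hβ : ∀ x y, X.com x y → ψ x y = β (X.cl x y)) : X.A1 ψ 8 296072 = rowA β 16000 := by
  have h1 : X.hf ψ 296072 8 = X.hf ψ 8 296072 := orbs.rev hK.hf (τ := 2) (by norm_num) (e := e25) (e' := e25)
    (by unfold ent; simp) (by show e25 ∈ ent 2; unfold ent; simp) rfl
  show X.hf ψ 8 296072 + X.hf ψ 296072 8 = _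
  rw [h1, hfv_25 hβ, rowA_16000]
  ring

theorem A1v_30 (hK : X.KInv ψ) (hβ : ∀ x y, X.com x y → ψ x y = β (X.cl x y)) : X.A1 ψ 307496 308352 = rowA β 36360 := by
  have h1 : X.hf ψ 308352 307496 = X.hf ψ 307496 308352 := orbs.rev hK.hf (τ := 3) (by norm_num) (e := e30) (e' := e30)
    (by unfold ent; simp) (by show e30 ∈ ent 3; unfold ent; simp) rfl
  show X.hf ψ 307496 308352 + X.hf ψ 308352 307496 = _
  rw [h1, hfv_30 hβ, rowA_36360]
  ring

theorem A1v_31 (hK : X.KInv ψ) (hβ : ∀ x y, X.com x y → ψ x y = β (X.cl x y)) : X.A1 ψ 307496 307840 = rowA β 24036 := by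
  have h1 : X.hf ψ 307840 307496 = X.hf ψ 8 308352 := orbs.rev hK.hf (τ := 3) (by norm_num) (e := e31) (e' := e23)
    (by unfold ent; simp) (by show e23 ∈ ent 2; unfold ent; simp) rfl
  show X.hf ψ 307496 307840 + X.hf ψ 307840 307496 = _
  rw [h1, hfv_31 hβ, hfv_23 hβ, rowA_24036]
  ring

theorem A1v_32 (hK : X.KInv ψ) (hβ : ∀ x y, X.com x y → ψ x y = β (X.cl x y)) : X.A1 ψ 307496 1 = rowA β 12063 := by
  have h1 : X.hf ψ 1 307496 = X.hf ψ 1 307464 := orbs.rev hK.hf (τ := 3) (by norm_num) (e := e32) (e' := e13)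
    (by unfold ent; simp) (by show e13 ∈ ent 1; unfold ent; simp) rfl
  show X.hf ψ 307496 1 + X.hf ψ 1 307496 = _
  rw [h1, hfv_32 hβ, hfv_13 hβ, rowA_12063]
  ring

theorem A1v_33 (hK : X.KInv ψ) (hβ : ∀ x y, X.com x y → ψ x y = β (X.cl x y)) : X.A1 ψ 307496 307480 = rowA β 36072 := by
  have h1 : X.hf ψ 307480 307496 = X.hf ψ 307496 307480 := orbs.rev hK.hf (τ := 3) (by norm_num) (e := e33) (e' := e33)
    (by unfold ent; simp) (by show e33 ∈ ent 3; unfold ent; simp) rfl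
  show X.hf ψ 307496 307480 + X.hf ψ 307480 307496 = _
  rw [h1, hfv_33 hβ, rowA_36072]
  ring

theorem A1v_34 (hK : X.KInv ψ) (hβ : ∀ x y, X.com x y → ψ x y = β (X.cl x y)) : X.A1 ψ 307496 266040 = rowA β 36036 := by
  have h1 : X.hf ψ 266040 307496 = X.hf ψ 307496 266040 := orbs.rev hK.hf (τ := 3) (by norm_num) (e := e34) (e' := e34)
    (by unfold ent; simp) (by show e34 ∈ ent 3; unfold ent; simp) rfl
  show X.hf ψ 307496 266040 + X.hf ψ 266040 307496 = _
  rw [h1, hfv_34 hβ, rowA_36036]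
  ring

/-- **The first operator.** -/
theorem A1_val (hK : X.KInv ψ) (hβ : ∀ x y, X.com x y → ψ x y = β (X.cl x y)) {x y : ℕ} (hxy : X.com x y) :
    X.A1 ψ x y = rowA β (X.cl x y) := by
  refine orbs.apply_eq hK.A1 (f := fun _ k => rowA β k) ?_ hxy
  intro τ hτ e he
  interval_cases τ
  · unfold ent at he
    simp only [List.mem_cons, List.not_mem_nil, or_false] at he
    rcases he with rfl | rfl | rfl
    · exact A1v_00 hK hβ
    · exact A1v_01 hK hβ
    · exact A1v_02 hK hβ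
  · unfold ent at he
    simp only [List.mem_cons, List.not_mem_nil, or_false] at he
    rcases he with rfl | rfl | rfl | rfl
    · exact A1v_10 hK hβ
    · exact A1v_11 hK hβ
    · exact A1v_12 hK hβ
    · exact A1v_13 hK hβ
  · unfold ent at he
    simp only [List.mem_cons, List.not_mem_nil, or_false] at he
    rcases he with rfl | rfl | rfl | rfl | rfl | rfl
    · exact A1v_20 hK hβ
    · exact A1v_21 hK hβ
    · exact A1v_22 hK hβ
    · exact A1v_23 hK hβ
    · exact A1v_24 hK hβ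
    · exact A1v_25 hK hβ
  · unfold ent at he
    simp only [List.mem_cons, List.not_mem_nil, or_false] at he
    rcases he with rfl | rfl | rfl | rfl | rfl
    · exact A1v_30 hK hβ
    · exact A1v_31 hK hβ
    · exact A1v_32 hK hβ
    · exact A1v_33 hK hβ
    · exact A1v_34 hK hβ

theorem tp_tc0 : tp 0 = word tc0 := by
  rw [tp_eq (isPt_tr (u := []) (x := .l) (p := 0) (by decide +kernel))]
  rfl

theorem tp_td0 : tp 136 = word td0 := by
  rw [tp_eq (isPt_tr (u := []) (x := .j) (p := 136) (by decide +kernel))]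
  rfl

theorem s5v_0 (hβ : ∀ x y, X.com x y → ψ x y = β (X.cl x y)) : X.s5 ψ 0 136 = 247104 * β 36360 := by
  have hcd := (chkCl_spec cl_02).1
  have h := s5_row hβ (c := 0) (d := 136) chkw_0 chkd_02 hcd [(S0_0, 247104)] (by
    intro p hp
    simp only [List.mem_cons, List.not_mem_nil, or_false] at hp
    rcases hp with rfl
    · exact chkS_spec chkS0_0 hcd tp_tc0 tp_td0
  ) peelS0
  rw [h]
  simp only [List.map_cons, List.map_nil, List.sum_cons, List.sum_nil, S0_0]
  push_cast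
  ring

theorem CC_0 (hF : IsFn X ψ) (hK : X.KInv ψ) (hβ : ∀ x y, X.com x y → ψ x y = β (X.cl x y)) :
    X.CC ψ 0 136 = 3512 * β 3510 + 56320 * β 351 + 247104 * β 36360 := by
  have hcd := chkCl_spec cl_02
  have hcard : ((X.PT.filter fun x => X.com 0 x ∧ X.com 136 x).card : ℂ) = 3510 := by
    have h1 := hfv_02 (ψ := fn X X.cl fun _ => 1) (β := fun _ => 1) (fun x y h => if_pos h)
    rw [Ctx.hf_one] at h1
    rw [h1]
    norm_num
  have hrs : X.rs ψ 136 = X.rs ψ 0 := orbs.rs_end hK (τ := 0) (by norm_num) (e := e02) (by unfold ent; simp)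
  rw [Ctx.CC_eq' tr hF hcd.1, hcard, hrs, rsv_0 hβ, A1v_02 hK hβ, rowA_3510, s5v_0 hβ, hβ _ _ hcd.1, hcd.2]
  ring

theorem tp_tc3 : tp 1 = word tc3 := by
  rw [tp_eq (isPt_tr (u := []) (x := .a) (p := 1) (by decide +kernel))]
  rfl

theorem tp_td3 : tp 4 = word td3 := by
  rw [tp_eq (isPt_tr (u := []) (x := .h) (p := 4) (by decide +kernel))]
  rfl

theorem s5v_3 (hβ : ∀ x y, X.com x y → ψ x y = β (X.cl x y)) : X.s5 ψ 1 4 = 2304 * β 4180 + 46080 * β 16063 + 320 * β 36360 + 34560 * β 36072 + 163840 * β 36036 := by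
  have hcd := (chkCl_spec cl_10).1
  have h := s5_row hβ (c := 1) (d := 4) chkw_1 chkd_10 hcd [(S3_0, 2304), (S3_1, 23040), (S3_2, 23040), (S3_3, 163840), (S3_4, 34560), (S3_5, 320)] (by
    intro p hp
    simp only [List.mem_cons, List.not_mem_nil, or_false] at hp
    rcases hp with rfl | rfl | rfl | rfl | rfl | rfl
    · exact chkS_spec chkS3_0 hcd tp_tc3 tp_td3
    · exact chkS_spec chkS3_1 hcd tp_tc3 tp_td3
    · exact chkS_spec chkS3_2 hcd tp_tc3 tp_td3
    · exact chkS_spec chkS3_3 hcd tp_tc3 tp_td3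
    · exact chkS_spec chkS3_4 hcd tp_tc3 tp_td3
    · exact chkS_spec chkS3_5 hcd tp_tc3 tp_td3
  ) peelS3
  rw [h]
  simp only [List.map_cons, List.map_nil, List.sum_cons, List.sum_nil, S3_0, S3_1, S3_2, S3_3, S3_4, S3_5]
  push_cast
  ring

theorem CC_3 (hF : IsFn X ψ) (hK : X.KInv ψ) (hβ : ∀ x y, X.com x y → ψ x y = β (X.cl x y)) :
    X.CC ψ 1 4 = 6840 * β 4180 + 9216 * β 8126 + 46080 * β 12063 + 46080 * β 16063 + 320 * β 36360 + 34560 * β 36072 + 163840 * β 36036 := by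
  have hcd := chkCl_spec cl_10
  have hcard : ((X.PT.filter fun x => X.com 1 x ∧ X.com 4 x).card : ℂ) = 3510 := by
    have h1 := hfv_10 (ψ := fn X X.cl fun _ => 1) (β := fun _ => 1) (fun x y h => if_pos h)
    rw [Ctx.hf_one] at h1
    rw [h1]
    norm_num
  have hrs : X.rs ψ 4 = X.rs ψ 1 := orbs.rs_end hK (τ := 1) (by norm_num) (e := e10) (by unfold ent; simp)
  rw [Ctx.CC_eq' tr hF hcd.1, hcard, hrs, rsv_1 hβ, A1v_10 hK hβ, rowA_4180, s5v_3 hβ, hβ _ _ hcd.1, hcd.2]
  ring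

theorem tp_tc7 : tp 8 = word tc7 := by
  rw [tp_eq (isPt_tr (u := []) (x := .g) (p := 8) (by decide +kernel))]
  rfl

theorem tp_td7 : tp 307872 = word td7 := by
  rw [tp_eq (isPt_tr (u := []) (x := .k) (p := 307872) (by decide +kernel))]
  rfl

theorem s5v_7 (hβ : ∀ x y, X.com x y → ψ x y = β (X.cl x y)) : X.s5 ψ 8 307872 = 5832 * β 12063 + 5832 * β 16108 + 77760 * β 24036 + 270 * β 36360 + 65610 * β 36072 + 91800 * β 36036 := by
  have hcd := (chkCl_spec cl_20).1
  have h := s5_row hβ (c := 8) (d := 307872) chkw_2 chkd_20 hcd [(S7_0, 2916), (S7_1, 2916), (S7_2, 2916), (S7_3, 2916), (S7_4, 19440), (S7_5, 19440), (S7_6, 19440), (S7_7, 19440), (S7_8, 65610), (S7_9, 65610), (S7_10, 25920), (S7_11, 270), (S7_12, 270)] (by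
    intro p hp
    simp only [List.mem_cons, List.not_mem_nil, or_false] at hp
    rcases hp with rfl | rfl | rfl | rfl | rfl | rfl | rfl | rfl | rfl | rfl | rfl | rfl | rfl
    · exact chkS_spec chkS7_0 hcd tp_tc7 tp_td7
    · exact chkS_spec chkS7_1 hcd tp_tc7 tp_td7
    · exact chkS_spec chkS7_2 hcd tp_tc7 tp_td7
    · exact chkS_spec chkS7_3 hcd tp_tc7 tp_td7
    · exact chkS_spec chkS7_4 hcd tp_tc7 tp_td7
    · exact chkS_spec chkS7_5 hcd tp_tc7 tp_td7
    · exact chkS_spec chkS7_6 hcd tp_tc7 tp_td7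
    · exact chkS_spec chkS7_7 hcd tp_tc7 tp_td7
    · exact chkS_spec chkS7_8 hcd tp_tc7 tp_td7
    · exact chkS_spec chkS7_9 hcd tp_tc7 tp_td7
    · exact chkS_spec chkS7_10 hcd tp_tc7 tp_td7
    · exact chkS_spec chkS7_11 hcd tp_tc7 tp_td7
    · exact chkS_spec chkS7_12 hcd tp_tc7 tp_td7
  ) peelS7
  rw [h]
  simp only [List.map_cons, List.map_nil, List.sum_cons, List.sum_nil, S7_0, S7_1, S7_2, S7_3, S7_4, S7_5, S7_6, S7_7, S7_8, S7_9, S7_10, S7_11, S7_12]
  push_cast
  ring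

theorem CC_7 (hF : IsFn X ψ) (hK : X.KInv ψ) (hβ : ∀ x y, X.com x y → ψ x y = β (X.cl x y)) :
    X.CC ψ 8 307872 = 2 * β 351 + 486 * β 8126 + 5832 * β 12063 + 5832 * β 16063 + 10312 * β 16108 + 4320 * β 16000 + 122472 * β 24036 + 270 * β 36360 + 65610 * β 36072 + 91800 * β 36036 := by
  have hcd := chkCl_spec cl_20
  have hcard : ((X.PT.filter fun x => X.com 8 x ∧ X.com 307872 x).card : ℂ) = 3510 := by
    have h1 := hfv_20 (ψ := fn X X.cl fun _ => 1) (β := fun _ => 1) (fun x y h => if_pos h)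
    rw [Ctx.hf_one] at h1
    rw [h1]
    norm_num
  have hrs : X.rs ψ 307872 = X.rs ψ 8 := orbs.rs_end hK (τ := 2) (by norm_num) (e := e20) (by unfold ent; simp)
  rw [Ctx.CC_eq' tr hF hcd.1, hcard, hrs, rsv_2 hβ, A1v_20 hK hβ, rowA_16108, s5v_7 hβ, hβ _ _ hcd.1, hcd.2]
  ring

theorem tp_tc10 : tp 307496 = word tc10 := by
  rw [tp_eq (isPt_tr (u := [.g, .f, .k, .a, .e, .b, .d]) (x := .c) (p := 307496) (by decide +kernel))]
  rfl

theorem tp_td10 : tp 308352 = word td10 := by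
  rw [tp_eq (isPt_tr (u := [.l, .j, .k, .a, .g, .b, .f, .c, .e]) (x := .d) (p := 308352) (by decide +kernel))]
  rfl

theorem s5v_10 (hβ : ∀ x y, X.com x y → ψ x y = β (X.cl x y)) : X.s5 ψ 307496 308352 = 2 * β 3510 + 3150 * β 4180 + 44800 * β 16108 + 3152 * β 36360 + 151200 * β 36072 + 44800 * β 36036 := by
  have hcd := (chkCl_spec cl_30).1
  have h := s5_row hβ (c := 307496) (d := 308352) chkw_3 chkd_30 hcd [(S10_0, 1), (S10_1, 1), (S10_2, 3150), (S10_3, 1), (S10_4, 1), (S10_5, 3150), (S10_6, 22400), (S10_7, 22400), (S10_8, 22400), (S10_9, 22400), (S10_10, 151200)] (by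
    intro p hp
    simp only [List.mem_cons, List.not_mem_nil, or_false] at hp
    rcases hp with rfl | rfl | rfl | rfl | rfl | rfl | rfl | rfl | rfl | rfl | rfl
    · exact chkS_spec chkS10_0 hcd tp_tc10 tp_td10
    · exact chkS_spec chkS10_1 hcd tp_tc10 tp_td10
    · exact chkS_spec chkS10_2 hcd tp_tc10 tp_td10
    · exact chkS_spec chkS10_3 hcd tp_tc10 tp_td10
    · exact chkS_spec chkS10_4 hcd tp_tc10 tp_td10
    · exact chkS_spec chkS10_5 hcd tp_tc10 tp_td10
    · exact chkS_spec chkS10_6 hcd tp_tc10 tp_td10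
    · exact chkS_spec chkS10_7 hcd tp_tc10 tp_td10
    · exact chkS_spec chkS10_8 hcd tp_tc10 tp_td10
    · exact chkS_spec chkS10_9 hcd tp_tc10 tp_td10
    · exact chkS_spec chkS10_10 hcd tp_tc10 tp_td10
  ) peelS10
  rw [h]
  simp only [List.map_cons, List.map_nil, List.sum_cons, List.sum_nil, S10_0, S10_1, S10_2, S10_3, S10_4, S10_5, S10_6, S10_7, S10_8, S10_9, S10_10]
  push_cast
  ring

theorem CC_10 (hF : IsFn X ψ) (hK : X.KInv ψ) (hβ : ∀ x y, X.com x y → ψ x y = β (X.cl x y)) :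
    X.CC ψ 307496 308352 = 2 * β 3510 + 3150 * β 4180 + 44800 * β 16108 + 11520 * β 24036 + 6664 * β 36360 + 151200 * β 36072 + 89600 * β 36036 := by
  have hcd := chkCl_spec cl_30
  have hcard : ((X.PT.filter fun x => X.com 307496 x ∧ X.com 308352 x).card : ℂ) = 3510 := by
    have h1 := hfv_30 (ψ := fn X X.cl fun _ => 1) (β := fun _ => 1) (fun x y h => if_pos h)
    rw [Ctx.hf_one] at h1
    rw [h1]
    norm_num
  have hrs : X.rs ψ 308352 = X.rs ψ 307496 := orbs.rs_end hK (τ := 3) (by norm_num) (e := e30) (by unfold ent; simp)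
  rw [Ctx.CC_eq' tr hF hcd.1, hcard, hrs, rsv_3 hβ, A1v_30 hK hβ, rowA_36360, s5v_10 hβ, hβ _ _ hcd.1, hcd.2]
  ring

/-- the classes -/
theorem cl_mem {x y : ℕ} (hxy : X.com x y) : X.cl x y ∈ [3510, 693, 351, 4180, 8126, 12063, 16063, 16108, 16000, 24036, 36360, 36072, 36036] := by
  obtain ⟨e, he, hn, -, hk, -⟩ := orbs.exists_ent hxy
  rw [hk]
  have h2 : ∀ τ < 4, ∀ e ∈ ent τ, e.k ∈ [3510, 693, 351, 4180, 8126, 12063, 16063, 16108, 16000, 24036, 36360, 36072, 36036] := by decide +kernel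
  exact h2 _ hn e he

end Cfsg.Agent.H30.FiE
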